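import Groth.Agent.KFlatLib.SingleIso
import Groth.Agent.KFlatLib.Scheme.Amplitude
import Groth.Agent.KFlatLib.Scheme.QCohDerived
import Groth.Agent.KFlatLib.Perfect.Tri

/-!
# The functors `M ↦ H^p(R ⊗ M)`
-/

set_option autoImplicit false
set_option linter.style.haveILetI false

universe u

open CategoryTheory CategoryTheory.Limits AlgebraicGeometry

attribute [local instance] HasDerivedCategory.standard

namespace Groth.Agent.Exactness

open KFlatLib

variable {X : Scheme.{u}}

/-- `M ↦ R ⊗ M`, termwise. -/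
noncomputable def tFun (R : CochainComplex X.Modules ℤ) : X.Modules ⥤ CochainComplex X.Modules ℤ where
  obj M := ((DCoh.tensorBi.flip.obj M).mapHomologicalComplex (ComplexShape.up ℤ)).obj R
  map f := (NatTrans.mapHomologicalComplex (DCoh.tensorBi.flip.map f) (ComplexShape.up ℤ)).app R
  map_id M := by ext n; simp
  map_comp f g := by ext n; simp

/-- Functoriality of `tFun` in the complex. -/
noncomputable def tNat {P R : CochainComplex X.Modules ℤ} (φ : P ⟶ R) : tFun P ⟶ tFun R where
  app M := ((DCoh.tensorBi.flip.obj M).mapHomologicalComplex (ComplexShape.up ℤ)).map φ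
  naturality M N f := by
    exact (NatTrans.mapHomologicalComplex (DCoh.tensorBi.flip.map f) (ComplexShape.up ℤ)).naturality φ |>.symm

/-- `M ↦ H^p(R ⊗ M)`. -/
noncomputable abbrev hT (R : CochainComplex X.Modules ℤ) (p : ℤ) : X.Modules ⥤ X.Modules :=
  tFun R ⋙ HomologicalComplex.homologyFunctor X.Modules (ComplexShape.up ℤ) p

instance (R : CochainComplex X.Modules ℤ) : (tFun R).Additive where
  map_add {M N f g} := by
    refine HomologicalComplex.hom_ext _ _ fun n => ?_
    exact (DCoh.tensorBi.obj (R.X n)).map_add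

/-- The two ways of tensoring with a module agree. -/
noncomputable def flipTensorIso (M : X.Modules) :
    DCoh.tensorBi.flip.obj M ≅ DCoh.tensorRightMod M :=
  NatIso.ofComponents (fun _ => Iso.refl _) fun f => by
    simp only [Iso.refl_hom]
    exact (Category.comp_id _).trans (Eq.trans rfl (Category.id_comp _).symm)

/-- The homology of `R ⊗ N` for a K-flat `R`. -/
lemma nonempty_hT_iso {R : CochainComplex X.Modules ℤ} (hR : DCoh.IsKFlat R) (N : X.Modules)
    [DCoh.HasLTensorMod N] (p : ℤ) :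
    Nonempty ((hT R p).obj N ≅ DCoh.HD ((DCoh.LTensorMod N).obj (DCoh.toD X R)) p) :=
  ⟨(HomologicalComplex.homologyFunctor _ _ p).mapIso
      ((NatIso.mapHomologicalComplex (flipTensorIso N) _).app R) ≪≫ (hdLTensorModIso N hR p).symm⟩

/-- A pseudo-coherence map between K-flat complexes gives isomorphisms after tensoring. -/
lemma isIso_hT_of_pc {P R : CochainComplex X.Modules ℤ} (hP : DCoh.IsKFlat P) (hR : DCoh.IsKFlat R)
    (φ : P ⟶ R) {m : ℤ} (hφ : IsPcMap m (DerivedCategory.Q.map φ)) (N : X.Modules) {p : ℤ}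
    (hp : m < p) :
    IsIso (HomologicalComplex.homologyMap ((tNat φ).app N) p) := by
  let F := DCoh.tensorBi.flip.obj N
  let C := CochainComplex.mappingCone φ
  have hC : DCoh.IsKFlat C := kFlat_cone (T := DCoh.tensorBi) φ hP hR
  have hz := (isPcMap_iff_cone m φ).1 hφ
  haveI : C.IsLE (m - 1) := (CochainComplex.isLE_iff C (m - 1)).2 fun i hi =>
    (HomologicalComplex.exactAt_iff_isZero_homology _ _).2 (hz i (by omega))
  obtain ⟨L, ρ, hρ, hL, hLK⟩ := exists_flat_rep C (m - 1)
  haveI := hρ
  haveI := hL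
  haveI := hasLTensorMod N
  haveI := isIso_Q_map ρ hρ
  have h0 : ∀ i, m ≤ i →
      IsZero (((F.mapHomologicalComplex (ComplexShape.up ℤ)).obj C).homology i) := fun i hi => by
    obtain ⟨e₁⟩ := nonempty_hT_iso hC N i
    obtain ⟨e₂⟩ := nonempty_hT_iso hLK N i
    refine IsZero.of_iso ?_ (e₁ ≪≫ (DerivedCategory.homologyFunctor X.Modules i).mapIso
      ((DCoh.LTensorMod N).mapIso (asIso (DerivedCategory.Q.map ρ)).symm) ≪≫ e₂.symm)
    exact ShortComplex.isZero_homology_of_isZero_X₂ _
      (F.map_isZero (CochainComplex.isZero_of_isStrictlyLE L (m - 1) i (by omega)))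
  have hpc : IsPcMap m (DerivedCategory.Q.map ((tNat φ).app N)) :=
    (isPcMap_iff_cone m _).2 fun i hi => (h0 i hi).of_iso
      ((HomologicalComplex.homologyFunctor _ _ i).mapIso
        (CochainComplex.mappingCone.mapHomologicalComplexIso φ F)).symm
  haveI := hpc.1 p hp
  exact (NatIso.isIso_map_iff (DerivedCategory.homologyFunctorFactors X.Modules p)
    ((tNat φ).app N)).1 (inferInstanceAs (IsIso ((DerivedCategory.homologyFunctor X.Modules p).map
      (DerivedCategory.Q.map ((tNat φ).app N)))))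

/-- A pseudo-coherence map in the derived category gives a natural isomorphism in degrees above
its level. -/
lemma nonempty_hT_natIso {P R : CochainComplex X.Modules ℤ} (hP : DCoh.IsKFlat P)
    (hR : DCoh.IsKFlat R) (α : DerivedCategory.Q.obj P ⟶ DerivedCategory.Q.obj R) {m : ℤ}
    (hα : IsPcMap m α) {p : ℤ} (hp : m < p) : Nonempty (hT P p ≅ hT R p) := by
  obtain ⟨Z, s, hs, g, hg⟩ := DerivedCategory.right_fac α
  haveI : IsIso (DerivedCategory.Q.map s) := hs
  let W := (kRes X).obj Z
  let ψ : W ⟶ Z := (flatCover X).ψ.app Z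
  haveI := isIso_Q_map ψ ((flatCover X).quasiIso_ψ Z)
  have h1 : IsPcMap m (DerivedCategory.Q.map (ψ ≫ s)) := by
    rw [Functor.map_comp]
    exact isPcMap_of_isIso m _
  have h2 : IsPcMap m (DerivedCategory.Q.map (ψ ≫ g)) := by
    have e : DerivedCategory.Q.map (ψ ≫ g) = DerivedCategory.Q.map (ψ ≫ s) ≫ α := by
      rw [hg, Functor.map_comp, Functor.map_comp, Category.assoc, IsIso.hom_inv_id_assoc]
    rw [e]
    exact h1.comp hα
  have hW : DCoh.IsKFlat W := isKFlat_kRes Z
  let H := HomologicalComplex.homologyFunctor X.Modules (ComplexShape.up ℤ) p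
  haveI : ∀ N, IsIso ((Functor.whiskerRight (tNat (ψ ≫ s)) H).app N) :=
    fun N => isIso_hT_of_pc hW hP (ψ ≫ s) h1 N hp
  haveI : ∀ N, IsIso ((Functor.whiskerRight (tNat (ψ ≫ g)) H).app N) :=
    fun N => isIso_hT_of_pc hW hR (ψ ≫ g) h2 N hp
  haveI : IsIso (Functor.whiskerRight (tNat (ψ ≫ s)) H) := NatIso.isIso_of_isIso_app _
  haveI : IsIso (Functor.whiskerRight (tNat (ψ ≫ g)) H) := NatIso.isIso_of_isIso_app _
  exact ⟨(asIso (Functor.whiskerRight (tNat (ψ ≫ s)) H)).symm ≪≫
    asIso (Functor.whiskerRight (tNat (ψ ≫ g)) H)⟩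

end Groth.Agent.Exactness
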