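import Mathlib.Algebra.Category.ModuleCat.Monoidal.Basic
import Mathlib.Algebra.Category.ModuleCat.Abelian
import Mathlib.Algebra.Homology.ShortComplex.ModuleCat
import Mathlib.Algebra.Homology.ShortComplex.Abelian
import Mathlib.RingTheory.Flat.Basic
import Mathlib.RingTheory.LocalRing.Module
import Mathlib.LinearAlgebra.Matrix.SchurComplement
import Mathlib.LinearAlgebra.Matrix.Rank

/-!
# Complexes with regular differentials

A map `d` is regular if `d ≫ g ≫ d = d` for some `g`. The homology of a short complex with regular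
maps is naturally a direct summand of the middle term.
-/

set_option autoImplicit false
set_option linter.style.haveILetI false

universe v u

open CategoryTheory CategoryTheory.Limits MonoidalCategory

namespace Groth.Agent.Exactness

section Abelian

variable {C : Type*} [Category C] [Abelian C] (S : ShortComplex C)

/-- Regularity data for the two maps of a short complex. -/
structure Reg where
  g₁ : S.X₂ ⟶ S.X₁
  g₂ : S.X₃ ⟶ S.X₂
  h₁ : S.f ≫ g₁ ≫ S.f = S.f
  h₂ : S.g ≫ g₂ ≫ S.g = S.g

variable {S} (r : Reg S)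

/-- The projection to homology, as an endomorphism of the middle term. -/
noncomputable def Reg.π : S.X₂ ⟶ S.X₂ := (𝟙 S.X₂ - S.g ≫ r.g₂) ≫ (𝟙 S.X₂ - r.g₁ ≫ S.f)

lemma Reg.f_π : S.f ≫ r.π = 0 := by
  simp [Reg.π, reassoc_of% S.zero, r.h₁]

lemma Reg.π_g : r.π ≫ S.g = 0 := by
  simp [Reg.π, S.zero, r.h₂]

/-- The retraction onto homology. -/
noncomputable def Reg.ret : S.X₂ ⟶ S.homology := S.liftCycles r.π r.π_g ≫ S.homologyπ

/-- The section of homology. -/
noncomputable def Reg.sec : S.homology ⟶ S.X₂ := S.homologyι ≫ S.descOpcycles r.π r.f_π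

lemma Reg.sec_ret : r.sec ≫ r.ret = 𝟙 _ := by
  have h1 : S.homologyπ ≫ r.sec = S.iCycles ≫ r.π := by
    simp [Reg.sec, S.homology_π_ι_assoc]
  rw [← cancel_epi S.homologyπ, ← Category.assoc, h1, Category.comp_id, Reg.ret,
    Category.assoc, ← Category.assoc, ← Category.assoc]
  have h2 : S.iCycles ≫ S.liftCycles r.π r.π_g =
      𝟙 S.cycles - (S.iCycles ≫ r.g₁) ≫ S.toCycles := by
    rw [← cancel_mono S.iCycles]
    simp [Reg.π]
  have h3 : (𝟙 S.cycles - (S.iCycles ≫ r.g₁) ≫ S.toCycles) ≫ S.homologyπ = S.homologyπ := by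
    rw [Preadditive.sub_comp, Category.assoc, S.toCycles_comp_homologyπ, comp_zero, sub_zero,
      Category.id_comp]
  have h4 : S.iCycles ≫ r.π = (𝟙 S.cycles - (S.iCycles ≫ r.g₁) ≫ S.toCycles) ≫ S.iCycles := by
    simp [Reg.π]
  rw [h4, Category.assoc, Category.assoc, ← Category.assoc S.iCycles, h2, h3, h3]

instance : IsSplitMono r.sec := ⟨⟨⟨r.ret, r.sec_ret⟩⟩⟩

instance : IsSplitEpi r.ret := ⟨⟨⟨r.sec, r.sec_ret⟩⟩⟩

variable {S' : ShortComplex C} (r' : Reg S') (φ : S ⟶ S')

/-- A map of short complexes compatible with the regularity data. -/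
structure Reg.Compat : Prop where
  c₁ : φ.τ₂ ≫ r'.g₁ = r.g₁ ≫ φ.τ₁
  c₂ : φ.τ₃ ≫ r'.g₂ = r.g₂ ≫ φ.τ₂

variable {r r' φ}

lemma Reg.π_naturality (h : r.Compat r' φ) : φ.τ₂ ≫ r'.π = r.π ≫ φ.τ₂ := by
  simp only [Reg.π, Preadditive.sub_comp, Preadditive.comp_sub, Category.comp_id, Category.id_comp,
    Category.assoc]
  simp only [φ.comm₁₂, φ.comm₂₃_assoc, reassoc_of% h.c₁, reassoc_of% h.c₂, h.c₂]

lemma Reg.mono_homologyMap (h : r.Compat r' φ) [Mono φ.τ₂] :
    Mono (ShortComplex.homologyMap φ) := by
  have e : ShortComplex.homologyMap φ ≫ r'.sec = r.sec ≫ φ.τ₂ := by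
    simp only [Reg.sec, Category.assoc]
    rw [ShortComplex.homologyι_naturality_assoc]
    congr 1
    rw [← cancel_epi S.pOpcycles]
    simp [Reg.π_naturality h]
  exact mono_of_mono_fac e

lemma Reg.epi_homologyMap (h : r.Compat r' φ) [Epi φ.τ₂] :
    Epi (ShortComplex.homologyMap φ) := by
  have e : r.ret ≫ ShortComplex.homologyMap φ = φ.τ₂ ≫ r'.ret := by
    simp only [Reg.ret, Category.assoc]
    rw [ShortComplex.homologyπ_naturality, ← Category.assoc, ← Category.assoc]
    congr 1
    rw [← cancel_mono S'.iCycles]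
    simp [Reg.π_naturality h]
  exact epi_of_epi_fac e

/-- If the maps on homology and on the last term are monomorphisms, so is the map on opcycles. -/
lemma mono_opcyclesMap [Mono φ.τ₃] [Mono (ShortComplex.homologyMap φ)] :
    Mono (ShortComplex.opcyclesMap φ) := by
  refine Preadditive.mono_of_cancel_zero _ fun {Z} k hk => ?_
  have h1 : k ≫ S.fromOpcycles = 0 := by
    have hc : ShortComplex.opcyclesMap φ ≫ S'.fromOpcycles = S.fromOpcycles ≫ φ.τ₃ := by
      rw [← cancel_epi S.pOpcycles]
      simp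
    rw [← cancel_mono φ.τ₃, zero_comp, Category.assoc, ← hc, ← Category.assoc, hk, zero_comp]
  obtain ⟨l, hl⟩ : ∃ l, l ≫ S.homologyι = k :=
    ⟨_, (KernelFork.IsLimit.lift' S.homologyIsKernel k h1).2⟩
  have h2 : (l ≫ ShortComplex.homologyMap φ) ≫ S'.homologyι = 0 := by
    rw [Category.assoc, ShortComplex.homologyι_naturality, ← Category.assoc, hl, hk]
  have h3 : l ≫ ShortComplex.homologyMap φ = 0 := by
    rw [← cancel_mono S'.homologyι, h2, zero_comp]
  rw [← hl, zero_of_comp_mono _ h3, zero_comp]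

end Abelian

section Ring

variable {A : Type u} [CommRing A]

/-- Over a local ring, a map of finite free modules with flat cokernel is regular. -/
lemma exists_reg_of_flat_coker [IsLocalRing A] {F₁ F₂ : ModuleCat.{u} A} (d : F₁ ⟶ F₂)
    [Module.Free A F₂] [Module.Finite A F₂]
    (h : Module.Flat A (F₂ ⧸ LinearMap.range d.hom)) : ∃ g : F₂ ⟶ F₁, d ≫ g ≫ d = d := by
  let W := LinearMap.range d.hom
  haveI : Module.Free A (F₂ ⧸ W) := Module.free_of_flat_of_isLocalRing
  obtain ⟨s, hs⟩ := Module.projective_lifting_property W.mkQ LinearMap.id W.mkQ_surjective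
  have hmem : ∀ x : (F₂ : Type u), ((LinearMap.id : (F₂ : Type u) →ₗ[A] F₂) - s ∘ₗ W.mkQ) x ∈ W := fun x => by
    refine (Submodule.Quotient.mk_eq_zero W).1 ?_
    show W.mkQ _ = 0
    have := LinearMap.congr_fun hs (W.mkQ x)
    simp only [LinearMap.comp_apply, LinearMap.id_apply] at this
    simp only [LinearMap.sub_apply, LinearMap.id_apply, LinearMap.comp_apply, map_sub, this, sub_self]
  obtain ⟨g, hg⟩ := Module.projective_lifting_property d.hom.rangeRestrict
    (((LinearMap.id : (F₂ : Type u) →ₗ[A] F₂) - s ∘ₗ W.mkQ).codRestrict W hmem) (LinearMap.surjective_rangeRestrict _)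
  refine ⟨ModuleCat.ofHom g, ModuleCat.hom_ext (LinearMap.ext fun x => ?_)⟩
  show d.hom (g (d.hom x)) = d.hom x
  refine (congrArg Subtype.val (LinearMap.congr_fun hg (d.hom x))).trans ?_
  have h0 : W.mkQ (d.hom x) = 0 := (Submodule.Quotient.mk_eq_zero W).2 ⟨x, rfl⟩
  simp [-Submodule.mkQ_apply, h0]

lemma pOpcycles_apply_eq_zero_iff {A : Type u} [CommRing A] (S : ShortComplex (ModuleCat.{u} A))
    (x : S.X₂) : S.pOpcycles x = 0 ↔ x ∈ LinearMap.range S.f.hom := by
  have h : (ShortComplex.mk S.f S.pOpcycles S.f_pOpcycles).Exact :=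
    ShortComplex.exact_of_g_is_cokernel _ S.opcyclesIsCokernel
  refine ⟨fun hx => (ShortComplex.moduleCat_exact_iff _).1 h x hx, ?_⟩
  rintro ⟨w, rfl⟩
  exact ConcreteCategory.congr_hom S.f_pOpcycles w

/-- The map induced on a short complex tensored with modules. -/
noncomputable abbrev tensorMap (S : ShortComplex (ModuleCat.{u} A)) {M N : ModuleCat.{u} A} (f : M ⟶ N) :
    S.map (tensorRight M) ⟶ S.map (tensorRight N) where
  τ₁ := S.X₁ ◁ f
  τ₂ := S.X₂ ◁ f
  τ₃ := S.X₃ ◁ f
  comm₁₂ := whisker_exchange S.f f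
  comm₂₃ := whisker_exchange S.g f

/-- If homology of `S ⊗ -` preserves monomorphisms and the last term is flat, the cokernel is flat. -/
lemma flat_coker_of_mono (S : ShortComplex (ModuleCat.{u} A)) [Module.Flat A S.X₃]
    (h : ∀ {M N : ModuleCat.{u} A} (f : M ⟶ N), Mono f →
      Mono (ShortComplex.homologyMap (tensorMap S f))) :
    Module.Flat A (S.X₂ ⧸ LinearMap.range S.f.hom) := by
  rw [Module.Flat.iff_lTensor_preserves_injective_linearMap]
  intro M N _ _ _ _ f hf
  let φ := ModuleCat.ofHom f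
  haveI hφ : Mono φ := (ModuleCat.mono_iff_injective _).2 hf
  haveI := h φ hφ
  haveI : Mono (tensorMap S φ).τ₃ := (ModuleCat.mono_iff_injective _).2
    (Module.Flat.lTensor_preserves_injective_linearMap f hf)
  haveI := mono_opcyclesMap (φ := tensorMap S φ)
  let π := (LinearMap.range S.f.hom).mkQ
  have hex : ∀ (L : Type u) [AddCommGroup L] [Module A L],
      Function.Exact (S.f.hom.rTensor L) (π.rTensor L) := fun L _ _ =>
    rTensor_exact L (LinearMap.exact_map_mkQ_range _) (Submodule.mkQ_surjective _)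
  have hc : ∀ x, f.lTensor _ (π.rTensor M x) = π.rTensor N (f.lTensor S.X₂ x) := fun x => by
    induction x using TensorProduct.induction_on with
    | zero => simp
    | tmul a b => rfl
    | add a b ha hb => simp only [map_add, ha, hb]
  rw [injective_iff_map_eq_zero]
  intro a ha
  obtain ⟨x, rfl⟩ := LinearMap.rTensor_surjective M (Submodule.mkQ_surjective _) a
  refine (hex M x).2 ((pOpcycles_apply_eq_zero_iff (S.map (tensorRight (ModuleCat.of A M))) x).1 ?_)
  refine (ModuleCat.mono_iff_injective (ShortComplex.opcyclesMap (tensorMap S φ))).1 inferInstance ?_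
  refine Eq.trans ?_ (map_zero _).symm
  refine (ConcreteCategory.congr_hom (ShortComplex.p_opcyclesMap (tensorMap S φ)) x).trans ?_
  refine (pOpcycles_apply_eq_zero_iff (S.map (tensorRight (ModuleCat.of A N))) _).2 ?_
  exact (hex N _).1 ((hc x).symm.trans ha)

end Ring

section Matrix

variable {A : Type u} [CommRing A] {m n r : ℕ}

/-- A matrix with a unit minor of size `r` and vanishing minors of size `r + 1` is regular. -/
lemma exists_reg_of_minors (c : Matrix (Fin m) (Fin n) A) (s : Fin r → Fin m) (t : Fin r → Fin n)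
    (hu : IsUnit (c.submatrix s t).det)
    (hz : ∀ (s' : Fin (r + 1) → Fin m) (t' : Fin (r + 1) → Fin n), (c.submatrix s' t').det = 0) :
    ∃ G : Matrix (Fin n) (Fin m) A, c * G * c = c := by
  classical
  let Q := c.submatrix s t
  let L : Matrix (Fin n) (Fin r) A := (1 : Matrix (Fin n) (Fin n) A).submatrix id t
  let R : Matrix (Fin r) (Fin m) A := (1 : Matrix (Fin m) (Fin m) A).submatrix s id
  haveI : Invertible Q.det := hu.invertible
  haveI : Invertible Q := Matrix.invertibleOfDetInvertible Q
  refine ⟨L * ⅟Q * R, ?_⟩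
  have hL : c * L = c.submatrix id t := by
    simpa using (Matrix.submatrix_mul c (1 : Matrix (Fin n) (Fin n) A) id id t Function.bijective_id).symm
  have hR : R * c = c.submatrix s id := by
    simpa using (Matrix.submatrix_mul (1 : Matrix (Fin m) (Fin m) A) c s id id Function.bijective_id).symm
  rw [show c * (L * ⅟Q * R) * c = (c * L) * ⅟Q * (R * c) by simp only [Matrix.mul_assoc], hL, hR]
  ext i j
  let B : Matrix (Fin r) Unit A := Matrix.of fun k _ => c (s k) j
  let C : Matrix Unit (Fin r) A := Matrix.of fun _ k => c i (t k)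
  let D : Matrix Unit Unit A := Matrix.of fun _ _ => c i j
  let e : Fin (r + 1) ≃ Fin r ⊕ Unit :=
    (finSumFinEquiv (m := r) (n := 1)).symm.trans (Equiv.sumCongr (Equiv.refl _) finOneEquiv)
  have hb : Matrix.fromBlocks Q B C D =
      c.submatrix (Sum.elim s fun _ => i) (Sum.elim t fun _ => j) := by
    ext a b
    cases a <;> cases b <;> rfl
  have h0 : (Matrix.fromBlocks Q B C D).det = 0 := by
    rw [hb, ← Matrix.det_submatrix_equiv_self e, Matrix.submatrix_submatrix]
    exact hz _ _
  rw [Matrix.det_fromBlocks₁₁, hu.mul_right_eq_zero, Matrix.det_unique] at h0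
  have h1 : c i j = (C * ⅟Q * B) default default := sub_eq_zero.1 h0
  refine Eq.trans ?_ h1.symm
  rw [Matrix.mul_apply, Matrix.mul_apply]
  refine Finset.sum_congr rfl fun k _ => congrArg (· * c (s k) j) ?_
  simp [Matrix.mul_apply, C]

/-- The rank of a regular matrix and that of the complementary projection add up to the size. -/
lemma rank_add_rank_of_reg {K : Type u} [Field K] (c : Matrix (Fin m) (Fin n) K)
    (G : Matrix (Fin n) (Fin m) K) (h : c * G * c = c) : c.rank + (1 - c * G).rank = m := by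
  let e := c * G
  have he : c.rank = e.rank := by
    refine le_antisymm ?_ (Matrix.rank_mul_le_left c G)
    calc c.rank = (e * c).rank := by rw [show e * c = c from h]
      _ ≤ e.rank := Matrix.rank_mul_le_left e c
  have hidem : e * e = e := by
    rw [show e * e = c * G * c * G by simp only [e, Matrix.mul_assoc], h]
  have hker : LinearMap.range (1 - e).mulVecLin = LinearMap.ker e.mulVecLin := by
    ext x
    simp only [LinearMap.mem_range, LinearMap.mem_ker, Matrix.mulVecLin_apply]
    constructor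
    · rintro ⟨y, rfl⟩
      rw [Matrix.mulVec_mulVec, Matrix.mul_sub, Matrix.mul_one, hidem, sub_self, Matrix.zero_mulVec]
    · intro hx
      exact ⟨x, by rw [Matrix.sub_mulVec, Matrix.one_mulVec, hx, sub_zero]⟩
  rw [he]
  unfold Matrix.rank
  rw [hker, LinearMap.finrank_range_add_finrank_ker, Module.finrank_fin_fun]

end Matrix

end Groth.Agent.Exactness
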