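import Groth.Agent.Exactness.Rank
import Groth.Agent.KFlatLib.Perfect.LocFreeLocus

/-!
# Complexes of free modules with regular differentials
-/

set_option autoImplicit false
set_option linter.style.haveILetI false
set_option backward.isDefEq.respectTransparency false

universe u

open CategoryTheory CategoryTheory.Limits AlgebraicGeometry TopologicalSpace Opposite Module

attribute [local instance] HasDerivedCategory.standard

namespace Groth.Agent.Exactness

open KFlatLib

variable {U : Scheme.{u}} (P : CochainComplex U.Modules ℤ) {n : ℤ → ℕ}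
  (e : ∀ i, P.X i ≅ FlatMod.freeMod U (n i))

/-- The differential is regular at the stalk. -/
def RegAt (a i : ℤ) (y : U) : Prop :=
  ∃ g : (DerSch.stalkFunctor U y).obj (P.X i) ⟶ (DerSch.stalkFunctor U y).obj (P.X a),
    (DerSch.stalkFunctor U y).map (P.d a i) ≫ g ≫ (DerSch.stalkFunctor U y).map (P.d a i) =
      (DerSch.stalkFunctor U y).map (P.d a i)

variable {P}

lemma nonempty_reg {a i b : ℤ} {y : U} (h₁ : RegAt P a i y) (h₂ : RegAt P i b y) :
    Nonempty (Reg (stalkSC P a i b y)) := by
  obtain ⟨g₁, hg₁⟩ := h₁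
  obtain ⟨g₂, hg₂⟩ := h₂
  exact ⟨⟨g₁, g₂, hg₁, hg₂⟩⟩

include e in
lemma isFlat_X (i : ℤ) : FlatMod.IsFlat (P.X i) :=
  IsFlat.of_iso (e i).symm (isFlat_freeMod (n i))

lemma eventually_rkAt_eq_of_regAt {a i : ℤ} {y : U} (h : RegAt P a i y) :
    ∀ᶠ z in nhds y, rkAt (dMat e a i) z = rkAt (dMat e a i) y := by
  obtain ⟨g, hg⟩ := h
  refine eventually_rkAt_eq_of_reg ((e a).inv ≫ P.d a i ≫ (e i).hom) y
    ((DerSch.stalkFunctor U y).map (e i).inv ≫ g ≫ (DerSch.stalkFunctor U y).map (e a).hom) ?_
  have h1 : (DerSch.stalkFunctor U y).map (e i).hom ≫ (DerSch.stalkFunctor U y).map (e i).inv = 𝟙 _ := by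
    rw [← Functor.map_comp, Iso.hom_inv_id, CategoryTheory.Functor.map_id]
  have h2 : (DerSch.stalkFunctor U y).map (e a).hom ≫ (DerSch.stalkFunctor U y).map (e a).inv = 𝟙 _ := by
    rw [← Functor.map_comp, Iso.hom_inv_id, CategoryTheory.Functor.map_id]
  simp only [Functor.map_comp, Category.assoc, reassoc_of% h1, reassoc_of% h2]
  rw [reassoc_of% (show (DerSch.stalkFunctor U y).map (P.d a i) ≫ g ≫ (DerSch.stalkFunctor U y).map (P.d a i) = (DerSch.stalkFunctor U y).map (P.d a i) from hg)]

lemma regAt_of_rkAt [IsReduced U] {a i : ℤ} {y : U}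
    (h : ∀ᶠ z in nhds y, rkAt (dMat e a i) z ≤ rkAt (dMat e a i) y) : RegAt P a i y := by
  let d' := (e a).inv ≫ P.d a i ≫ (e i).hom
  obtain ⟨g, hg⟩ := exists_reg_of_rkAt d' y h
  refine ⟨(DerSch.stalkFunctor U y).map (e i).hom ≫ g ≫ (DerSch.stalkFunctor U y).map (e a).inv, ?_⟩
  have hd : P.d a i = (e a).hom ≫ d' ≫ (e i).inv := by simp [d']
  have h1 : (DerSch.stalkFunctor U y).map (e i).inv ≫ (DerSch.stalkFunctor U y).map (e i).hom = 𝟙 _ := by
    rw [← Functor.map_comp, Iso.inv_hom_id, CategoryTheory.Functor.map_id]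
  have h2 : (DerSch.stalkFunctor U y).map (e a).inv ≫ (DerSch.stalkFunctor U y).map (e a).hom = 𝟙 _ := by
    rw [← Functor.map_comp, Iso.inv_hom_id, CategoryTheory.Functor.map_id]
  change (DerSch.stalkFunctor U y).map (P.d a i) ≫ _ ≫ (DerSch.stalkFunctor U y).map (P.d a i) = (DerSch.stalkFunctor U y).map (P.d a i)
  simp only [hd, Functor.map_comp, Category.assoc, reassoc_of% h1, reassoc_of% h2]
  rw [reassoc_of% (show (DerSch.stalkFunctor U y).map d' ≫ g ≫ (DerSch.stalkFunctor U y).map d' = (DerSch.stalkFunctor U y).map d' from hg)]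

lemma regAt_of_sum_eventually [IsReduced U] {a i b : ℤ} {y : U}
    (h : ∀ᶠ z in nhds y, rkAt (dMat e a i) z + rkAt (dMat e i b) z =
      rkAt (dMat e a i) y + rkAt (dMat e i b) y) : RegAt P a i y ∧ RegAt P i b y := by
  have h1 := eventually_le_rkAt (dMat e a i) y
  have h2 := eventually_le_rkAt (dMat e i b) y
  constructor
  · refine regAt_of_rkAt e ?_
    filter_upwards [h, h1, h2] with z hz hz1 hz2
    omega
  · refine regAt_of_rkAt e ?_
    filter_upwards [h, h1, h2] with z hz hz1 hz2
    omega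

include e in
/-- The cokernel of a differential that is regular at every stalk is flat. -/
lemma isFlat_cokernel_of_regAt {a i : ℤ} (h : ∀ y, RegAt P a i y) :
    FlatMod.IsFlat (cokernel (P.d a i)) := fun y => by
  obtain ⟨g, hg⟩ := h y
  let st := DerSch.stalkFunctor U y
  let c := PreservesCokernel.iso st (P.d a i)
  let s : cokernel (st.map (P.d a i)) ⟶ st.obj (P.X i) :=
    cokernel.desc _ (𝟙 (st.obj (P.X i)) - g ≫ st.map (P.d a i))
      (by rw [Preadditive.comp_sub, Category.comp_id]; exact sub_eq_zero.2 hg.symm)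
  have hs : s ≫ cokernel.π (st.map (P.d a i)) = 𝟙 _ := by
    rw [← cancel_epi (cokernel.π (st.map (P.d a i)))]
    simp only [s, cokernel.π_desc_assoc, Preadditive.sub_comp, Category.id_comp, Category.assoc,
      cokernel.condition, comp_zero, sub_zero, Category.comp_id]
  haveI : Module.Flat (U.presheaf.stalk y) (st.obj (P.X i) : Type u) := isFlat_X e i y
  have hc : (c.hom ≫ s) ≫ (cokernel.π (st.map (P.d a i)) ≫ c.inv) = 𝟙 _ := by
    rw [Category.assoc, ← Category.assoc s, hs, Category.id_comp, Iso.hom_inv_id]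
  exact Module.Flat.of_retract (c.hom ≫ s).hom (cokernel.π (st.map (P.d a i)) ≫ c.inv).hom
    (congrArg ModuleCat.Hom.hom hc)

include e in
/-- The cohomology of a complex of free modules with regular differentials is finite locally free. -/
lemma isFinLocFree_homology_of_regAt {a i b : ℤ} (hab : a + 1 = i) (hib : i + 1 = b)
    (h₁ : ∀ y, RegAt P a i y) (h₂ : ∀ y, RegAt P i b y) : FlatMod.IsFinLocFree (P.homology i) := by
  have hX : ∀ k, FlatMod.IsFinLocFree (P.X k) := fun k =>
    H23.PullPush.isFinLocFree_of_iso (e k).symm fun x => isFinLocFree_freeMod _ x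
  have hC₁ := isFinLocFree_cokernel (P.d a i) (hX a) (hX i) (isFlat_cokernel_of_regAt e h₁)
  have hC₂ := isFinLocFree_cokernel (P.d i b) (hX i) (hX b) (isFlat_cokernel_of_regAt e h₂)
  let S := P.sc' a i b
  let f := S.fromOpcycles
  have hop : FlatMod.IsFinLocFree S.opcycles :=
    H23.PullPush.isFinLocFree_of_iso
      (IsColimit.coconePointUniqueUpToIso (cokernelIsCokernel S.f) S.opcyclesIsCokernel) hC₁
  have hcf : FlatMod.IsFinLocFree (cokernel f) :=
    H23.PullPush.isFinLocFree_of_iso
      ((cokernelIsoOfEq S.p_fromOpcycles).symm ≪≫ cokernelEpiComp S.pOpcycles f) hC₂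
  have him : FlatMod.IsFinLocFree (Abelian.image f) :=
    isFinLocFree_kernel (cokernel.π f) (hX b) hcf
  have hk : FlatMod.IsFinLocFree (kernel f) :=
    H23.PullPush.isFinLocFree_of_iso
      ((kernelCompMono (Abelian.factorThruImage f) (Abelian.image.ι f)).symm ≪≫
        kernelIsoOfEq (Abelian.image.fac f))
      (isFinLocFree_kernel (Abelian.factorThruImage f) hop him)
  exact H23.PullPush.isFinLocFree_of_iso
    (IsLimit.conePointUniqueUpToIso (kernelIsKernel f) S.homologyIsKernel ≪≫
      (P.homologyIsoSc' a i b (by simp; omega) (by simp; omega)).symm) hk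

include e in
/-- A differential is regular at a stalk if the cohomology after it preserves monomorphisms of
the quasi-coherent test modules. -/
lemma regAt_of_sky {a i b : ℤ} (hab : a + 1 = i) (hib : i + 1 = b) (y : U)
    (h : ∀ {M N : ModuleCat.{u} (U.presheaf.stalk y)} (g : M ⟶ N), Mono g →
      Mono ((DerSch.stalkFunctor U y).map ((hT P i).map ((qcSkyF y).map g)))) : RegAt P a i y := by
  have hfl := flat_coker_of_sky P a i b hab hib y (isFlat_X e b y) h
  haveI : Module.Free (U.presheaf.stalk y) ((DerSch.stalkFunctor U y).obj (P.X i) : Type u) := by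
    haveI := (finite_free_stalk_freeMod y (n i)).1
    exact Module.Free.of_equiv' inferInstance ((DerSch.stalkFunctor U y).mapIso (e i).symm).toLinearEquiv
  haveI : Module.Finite (U.presheaf.stalk y) ((DerSch.stalkFunctor U y).obj (P.X i) : Type u) := by
    haveI := (finite_free_stalk_freeMod y (n i)).2.1
    exact Module.Finite.equiv ((DerSch.stalkFunctor U y).mapIso (e i).symm).toLinearEquiv
  obtain ⟨g, hg⟩ := exists_reg_of_flat_coker ((DerSch.stalkFunctor U y).map (P.d a i)) hfl
  exact ⟨g, hg⟩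

end Groth.Agent.Exactness
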