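import Groth.Agent.Exactness.Functor
import Groth.Agent.KFlatLib.SymmNat
import Groth.Agent.KFlatLib.Scheme.ProjFormula

/-!
# `M ↦ H^p(M ⊗^L F)` is `M ↦ H^p(R ⊗ M)`
-/

set_option autoImplicit false
set_option linter.style.haveILetI false
set_option backward.isDefEq.respectTransparency false

universe u

open CategoryTheory CategoryTheory.Limits AlgebraicGeometry

attribute [local instance] HasDerivedCategory.standard

namespace Groth.Agent.Exactness

open KFlatLib

variable {X : Scheme.{u}}

/-- `R ⊗ M[0]` is `R ⊗ M` termwise, naturally in `M`. -/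
noncomputable def singleTFunIso (R : CochainComplex X.Modules ℤ) :
    HomologicalComplex.single X.Modules (ComplexShape.up ℤ) 0 ⋙ DCoh.tensorCx.obj R ≅ tFun R :=
  NatIso.ofComponents (fun M => (singleIso DCoh.tensorBi M).app R) fun {M N} f => by
    ext n : 1
    have key : (DCoh.tensorBi.obj (R.X n)).map f ≫
        singleSummand (T := DCoh.tensorBi) R N 0 n n (add_zero n) =
        singleSummand (T := DCoh.tensorBi) R M 0 n n (add_zero n) ≫
          (HomologicalComplex.mapBifunctorMap (𝟙 R)
            ((HomologicalComplex.single X.Modules (ComplexShape.up ℤ) 0).map f) DCoh.tensorBi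
              (ComplexShape.up ℤ)).f n := by
      simp only [singleSummand, Category.assoc]
      erw [HomologicalComplex.ι_mapBifunctorMap]
      simp only [HomologicalComplex.id_f, CategoryTheory.Functor.map_id, NatTrans.id_app,
        Category.id_comp]
      rw [← Functor.map_comp_assoc, ← Functor.map_comp_assoc,
        HomologicalComplex.single_map_f_self, Iso.inv_hom_id_assoc]
    haveI := isIso_singleSummand (T := DCoh.tensorBi) R M 0 n n (add_zero n)
    haveI := isIso_singleSummand (T := DCoh.tensorBi) R N 0 n n (add_zero n)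
    change (HomologicalComplex.mapBifunctorMap (𝟙 R)
            ((HomologicalComplex.single X.Modules (ComplexShape.up ℤ) 0).map f) DCoh.tensorBi
              (ComplexShape.up ℤ)).f n ≫
        inv (singleSummand (T := DCoh.tensorBi) R N 0 n n (add_zero n)) =
      inv (singleSummand (T := DCoh.tensorBi) R M 0 n n (add_zero n)) ≫
        (DCoh.tensorBi.obj (R.X n)).map f
    rw [IsIso.comp_inv_eq, Category.assoc, IsIso.eq_inv_comp]
    exact key.symm

/-- `M ↦ H^p(M ⊗^L F)` computed by a K-flat representative of `F`. -/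
theorem nonempty_ltensor_hT_iso (F : CochainComplex X.Modules ℤ) [DCoh.HasLTensorCx F]
    {R : CochainComplex X.Modules ℤ} (hR : DCoh.IsKFlat R)
    (e : DerivedCategory.Q.obj R ≅ DerivedCategory.Q.obj F) (p : ℤ) :
    Nonempty (DerivedCategory.singleFunctor X.Modules 0 ⋙ DCoh.LTensorCx F ⋙
      DerivedCategory.homologyFunctor X.Modules p ≅ hT R p) := by
  haveI := hasLTensorCx R
  obtain ⟨eF⟩ := nonempty_LTensorCx_congr_D e
  let c := (DCoh.tensorCxQ R).totalLeftDerivedCounit DerivedCategory.Q (qisX X)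
  haveI : ∀ N, IsIso (c.app N) := fun N => isIso_LTensorCx_counit_of_isKFlat_right R hR N
  haveI : IsIso c := NatIso.isIso_of_isIso_app _
  let H := DerivedCategory.homologyFunctor X.Modules p
  let S := HomologicalComplex.single X.Modules (ComplexShape.up ℤ) 0
  let k₁ : DerivedCategory.singleFunctor X.Modules 0 ⋙ DCoh.LTensorCx F ⋙ H ≅
      S ⋙ (DerivedCategory.Q ⋙ DCoh.LTensorCx R) ⋙ H :=
    Functor.isoWhiskerRight (DerivedCategory.singleFunctorIsoCompQ X.Modules 0) _ ≪≫
      Functor.isoWhiskerLeft (S ⋙ DerivedCategory.Q) (Functor.isoWhiskerRight eF.symm H)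
  let k₂ : S ⋙ (DerivedCategory.Q ⋙ DCoh.LTensorCx R) ⋙ H ≅
      S ⋙ (DCoh.tensorCxQ R) ⋙ H :=
    Functor.isoWhiskerLeft S (Functor.isoWhiskerRight (asIso c) H)
  let k₃ : S ⋙ (DCoh.tensorCxQ R) ⋙ H ≅
      S ⋙ (DCoh.tensorCx.obj R ⋙ DerivedCategory.Q) ⋙ H :=
    Functor.isoWhiskerLeft S (Functor.isoWhiskerRight
      (Functor.isoWhiskerRight (symmIso (tensorBiFlipIso X) R) DerivedCategory.Q) H)
  exact ⟨k₁ ≪≫ k₂ ≪≫ k₃ ≪≫
    Functor.isoWhiskerLeft (S ⋙ DCoh.tensorCx.obj R)
      (DerivedCategory.homologyFunctorFactors X.Modules p) ≪≫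
    Functor.isoWhiskerRight (singleTFunIso R) _⟩

end Groth.Agent.Exactness
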