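import Groth.Agent.QCoh.Tilde
import Groth.Agent.QCoh.DevissageIdeal
import Groth.Agent.KFlatLib.Scheme.QCohD
import Groth.Prelude.Def_QCohCat
import Mathlib.CategoryTheory.Abelian.Subcategory

/-!
# The abelian category of quasi-coherent modules
-/

set_option autoImplicit false
set_option linter.style.haveILetI false

universe u

open CategoryTheory CategoryTheory.Limits AlgebraicGeometry

namespace Groth.Agent.Exactness

variable (X : Scheme.{u})

instance isClosedUnderIsomorphisms_isQCoh : (QCohCat.isQCoh X).IsClosedUnderIsomorphisms where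
  of_iso e h := (QCoh.isQCoh_iff_iso e).1 h

instance containsZero_isQCoh : (QCohCat.isQCoh X).ContainsZero where
  exists_zero := ⟨_, isZero_zero _, KFlatLib.isQCoh_of_isZero (isZero_zero _)⟩

instance isClosedUnderKernels_isQCoh : (QCohCat.isQCoh X).IsClosedUnderKernels where
  kernels_le := by
    rintro _ ⟨f, k, hk, hf⟩
    exact (QCoh.isQCoh_iff_iso (IsLimit.conePointUniqueUpToIso (kernelIsKernel f) hk)).1
      (QCoh.isQCoh_kernel hf.1 hf.2 f)

instance isClosedUnderCokernels_isQCoh : (QCohCat.isQCoh X).IsClosedUnderCokernels where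
  cokernels_le := by
    rintro _ ⟨f, k, hk, hf⟩
    exact (QCoh.isQCoh_iff_iso (IsColimit.coconePointUniqueUpToIso (cokernelIsCokernel f) hk)).1
      (QCoh.isQCoh_cokernel hf.1 hf.2 f)

attribute [local instance] HasFiniteBiproducts.of_hasFiniteProducts

instance isClosedUnderFiniteProducts_isQCoh : (QCohCat.isQCoh X).IsClosedUnderFiniteProducts := by
  refine ObjectProperty.IsClosedUnderFiniteProducts.of_isClosedUnderLimitsOfShape.{u} fun J _ => ?_
  refine ⟨?_⟩
  rintro M ⟨p⟩
  haveI := Fintype.ofFinite J
  let T : J → X.Modules := fun j => p.diag.obj ⟨j⟩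
  let e : M ≅ ⨁ T :=
    IsLimit.conePointUniqueUpToIso p.isLimit
      ((IsLimit.postcomposeInvEquiv (Discrete.natIsoFunctor (F := p.diag)) _).symm (biproduct.isLimit T))
  exact (QCoh.isQCoh_iff_iso e).2 (QCoh.isQCoh_biproduct T fun j => p.prop_diag_obj ⟨j⟩)

/-- Quasi-coherent modules form an abelian category. -/
noncomputable instance abelian_isQCoh : Abelian (QCohCat.isQCoh X).FullSubcategory := inferInstance

instance preservesFiniteLimits_ι : PreservesFiniteLimits (QCohCat.isQCoh X).ι := by
  haveI : ∀ {M N : (QCohCat.isQCoh X).FullSubcategory} (f : M ⟶ N),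
      PreservesLimit (parallelPair f 0) (QCohCat.isQCoh X).ι := fun f =>
    (QCohCat.isQCoh X).preservesKernels_ι f
  exact Functor.preservesFiniteLimits_of_preservesKernels _

instance preservesFiniteColimits_ι : PreservesFiniteColimits (QCohCat.isQCoh X).ι := by
  haveI : ∀ {M N : (QCohCat.isQCoh X).FullSubcategory} (f : M ⟶ N),
      PreservesColimit (parallelPair f 0) (QCohCat.isQCoh X).ι := fun f =>
    (QCohCat.isQCoh X).preservesCokernels_ι f
  exact Functor.preservesFiniteColimits_of_preservesCokernels _

end Groth.Agent.Exactness
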