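import Groth.Agent.Exactness.Local
import Groth.Agent.Exactness.QCohCategory
import Mathlib.Algebra.Homology.HomologySequence

/-!
# The long exact sequence of `M ↦ H^p(R ⊗ M)`, and exactness on quasi-coherent modules
-/

set_option autoImplicit false
set_option linter.style.haveILetI false
set_option backward.isDefEq.respectTransparency false

universe u

open CategoryTheory CategoryTheory.Limits AlgebraicGeometry MonoidalCategory

namespace Groth.Agent.Exactness

open KFlatLib

variable {X : Scheme.{u}} {R : CochainComplex X.Modules ℤ} (hf : ∀ n, FlatMod.IsFlat (R.X n))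

include hf in
/-- Tensoring with a termwise flat complex is exact. -/
lemma shortExact_map_tFun {S : ShortComplex X.Modules} (hS : S.ShortExact) :
    (S.map (tFun R)).ShortExact := by
  refine HomologicalComplex.shortExact_of_degreewise_shortExact _ fun n => ?_
  refine (shortExact_iff_stalk _).2 fun x => ?_
  have h := (shortExact_iff_stalk S).1 hS x
  haveI : Module.Flat (X.presheaf.stalk x) ((DerSch.stalkFunctor X x).obj (R.X n) : Type u) := hf n x
  let T := tensorLeft ((DerSch.stalkFunctor X x).obj (R.X n))
  have h' : ((S.map (DerSch.stalkFunctor X x)).map T).ShortExact := by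
    haveI := h.mono_f
    haveI := h.epi_g
    refine ShortComplex.ShortExact.mk'
      ((ShortComplex.ShortExact.moduleCat_exact_iff_function_exact _).2 ?_) ?_ ?_
    · exact Module.Flat.lTensor_exact _
        ((ShortComplex.ShortExact.moduleCat_exact_iff_function_exact _).1 h.exact)
    · exact (ModuleCat.mono_iff_injective _).2 (Module.Flat.lTensor_preserves_injective_linearMap _
        ((ModuleCat.mono_iff_injective _).1 h.mono_f))
    · exact (ModuleCat.epi_iff_surjective _).2 (LinearMap.lTensor_surjective _
        ((ModuleCat.epi_iff_surjective _).1 h.epi_g))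
  exact ShortComplex.shortExact_of_iso (S.mapNatIso (stalkTensorLeftIso (R.X n) x).symm) h'

include hf in
lemma exact_map_hT {S : ShortComplex X.Modules} (hS : S.ShortExact) (p : ℤ) :
    (S.map (hT R p)).Exact :=
  (shortExact_map_tFun hf hS).homology_exact₂ p

include hf in
lemma mono_succ_of_epi_hT {S : ShortComplex X.Modules} (hS : S.ShortExact) (p : ℤ)
    [Epi ((hT R p).map S.g)] : Mono ((hT R (p + 1)).map S.f) := by
  have hS' := shortExact_map_tFun hf hS
  haveI : Epi (HomologicalComplex.homologyMap (S.map (tFun R)).g p) :=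
    inferInstanceAs (Epi ((hT R p).map S.g))
  have h : hS'.δ p (p + 1) (by simp) = 0 := by
    rw [← cancel_epi (HomologicalComplex.homologyMap (S.map (tFun R)).g p), comp_zero]
    exact hS'.comp_δ p (p + 1) (by simp)
  exact (hS'.homology_exact₁ p (p + 1) (by simp)).mono_g h

include hf in
lemma epi_of_mono_succ_hT {S : ShortComplex X.Modules} (hS : S.ShortExact) (p : ℤ)
    [Mono ((hT R (p + 1)).map S.f)] : Epi ((hT R p).map S.g) := by
  have hS' := shortExact_map_tFun hf hS
  haveI : Mono (HomologicalComplex.homologyMap (S.map (tFun R)).f (p + 1)) :=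
    inferInstanceAs (Mono ((hT R (p + 1)).map S.f))
  have h : hS'.δ p (p + 1) (by simp) = 0 := by
    rw [← cancel_mono (HomologicalComplex.homologyMap (S.map (tFun R)).f (p + 1)), zero_comp]
    exact hS'.δ_comp p (p + 1) (by simp)
  exact (hS'.homology_exact₃ p (p + 1) (by simp)).epi_f h

variable (p : ℤ)

include hf in
/-- `M ↦ H^p(R ⊗ M)` is left exact on quasi-coherent modules iff it preserves monomorphisms. -/
lemma preservesFiniteLimits_iff :
    PreservesFiniteLimits ((QCohCat.isQCoh X).ι ⋙ hT R p) ↔
      ∀ {M N : X.Modules} (f : M ⟶ N), Coh.IsQCoh M → Coh.IsQCoh N → Mono f →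
        Mono ((hT R p).map f) := by
  constructor
  · intro h M N f hM hN hm
    let f' : (⟨M, hM⟩ : (QCohCat.isQCoh X).FullSubcategory) ⟶ ⟨N, hN⟩ :=
      (QCohCat.isQCoh X).homMk f
    haveI : Mono f' := Functor.mono_of_mono_map (QCohCat.isQCoh X).ι hm
    exact inferInstanceAs (Mono (((QCohCat.isQCoh X).ι ⋙ hT R p).map f'))
  · intro h
    refine (Functor.preservesFiniteLimits_iff_forall_exact_map_and_mono _).2 fun S hS => ?_
    have hS' := hS.map_of_exact (QCohCat.isQCoh X).ι
    exact ⟨exact_map_hT hf hS' p, h _ S.X₁.property S.X₂.property hS'.mono_f⟩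

include hf in
/-- `M ↦ H^p(R ⊗ M)` is right exact on quasi-coherent modules iff `M ↦ H^{p+1}(R ⊗ M)` preserves
monomorphisms. -/
lemma preservesFiniteColimits_iff :
    PreservesFiniteColimits ((QCohCat.isQCoh X).ι ⋙ hT R p) ↔
      ∀ {M N : X.Modules} (f : M ⟶ N), Coh.IsQCoh M → Coh.IsQCoh N → Mono f →
        Mono ((hT R (p + 1)).map f) := by
  constructor
  · intro h M N f hM hN hm
    let π : (⟨N, hN⟩ : (QCohCat.isQCoh X).FullSubcategory) ⟶
        ⟨cokernel f, (QCohCat.isQCoh X).prop_cokernel f hM hN⟩ :=
      (QCohCat.isQCoh X).homMk (cokernel.π f)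
    haveI : Epi π := Functor.epi_of_epi_map (QCohCat.isQCoh X).ι
      (inferInstanceAs (Epi (cokernel.π f)))
    let S : ShortComplex X.Modules := ShortComplex.mk f (cokernel.π f) (cokernel.condition f)
    have hS : S.ShortExact :=
      ShortComplex.ShortExact.mk' (ShortComplex.exact_of_g_is_cokernel S (cokernelIsCokernel f))
        hm inferInstance
    haveI : Epi ((hT R p).map S.g) :=
      inferInstanceAs (Epi (((QCohCat.isQCoh X).ι ⋙ hT R p).map π))
    exact mono_succ_of_epi_hT hf hS p
  · intro h
    refine (Functor.preservesFiniteColimits_iff_forall_exact_map_and_epi _).2 fun S hS => ?_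
    have hS' := hS.map_of_exact (QCohCat.isQCoh X).ι
    haveI := h _ S.X₁.property S.X₂.property hS'.mono_f
    exact ⟨exact_map_hT hf hS' p, epi_of_mono_succ_hT hf hS' p⟩

end Groth.Agent.Exactness
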