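import Groth.Agent.Exactness.Main
import Groth.Agent.Exactness.Les
import Groth.Agent.Exactness.Derived
import Groth.Agent.KFlatLib.Perfect.DLocal

/-!
# Exactness of `M ↦ H^p(M ⊗^L F)`
-/

set_option autoImplicit false
set_option linter.style.haveILetI false
set_option backward.isDefEq.respectTransparency false

universe u

open CategoryTheory CategoryTheory.Limits AlgebraicGeometry

attribute [local instance] HasDerivedCategory.standard

namespace Groth.Agent.Exactness

open KFlatLib

variable {X : Scheme.{u}} (F : CochainComplex X.Modules ℤ)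
  [∀ x : X, DCoh.HasLpull (X.fromSpecResidueField x)] [DCoh.HasLTensorCx F] (p : ℤ)

/-- A locally constant fibre dimension makes `M ↦ H^p(M ⊗^L F)` exact on quasi-coherent modules. -/
theorem exact_qcoh_of_betti [IsReduced X] (hE : DCoh.IsPseudoCoherentD (p - 1) (DCoh.toD X F))
    (hc : IsLocallyConstant (fun x : X => PerfD.betti (DCoh.toD X F) x p)) :
    PreservesFiniteLimits ((QCohCat.isQCoh X).ι ⋙ DerivedCategory.singleFunctor X.Modules 0 ⋙
        DCoh.LTensorCx F ⋙ DerivedCategory.homologyFunctor X.Modules p) ∧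
      PreservesFiniteColimits ((QCohCat.isQCoh X).ι ⋙ DerivedCategory.singleFunctor X.Modules 0 ⋙
        DCoh.LTensorCx F ⋙ DerivedCategory.homologyFunctor X.Modules p) := by
  let R := (kRes X).obj F
  have hR : DCoh.IsKFlat R := isKFlat_kRes F
  have hf : ∀ n, FlatMod.IsFlat (R.X n) := isFlat_kRes F
  let eR : DerivedCategory.Q.obj R ≅ DCoh.toD X F := (resQIso X).app F
  obtain ⟨θ⟩ := nonempty_ltensor_hT_iso F hR eR p
  have hpc := (isPseudoCoherentD_iff _ _).1 hE
  let G := (QCohCat.isQCoh X).ι ⋙ hT R p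
  haveI : PreservesFiniteLimits G := (preservesFiniteLimits_iff hf p).2 fun f _ _ hm =>
    (preserves_hT_of_betti hR _ eR hpc hc f).1 hm
  haveI : PreservesFiniteColimits G :=
    (Functor.preservesFiniteColimits_iff_forall_exact_map_and_epi _).2 fun S hS =>
      have hS' := hS.map_of_exact (QCohCat.isQCoh X).ι
      ⟨exact_map_hT hf hS' p, (preserves_hT_of_betti hR _ eR hpc hc _).2 hS'.epi_g⟩
  exact ⟨preservesFiniteLimits_of_natIso (Functor.isoWhiskerLeft (QCohCat.isQCoh X).ι θ).symm,
    preservesFiniteColimits_of_natIso (Functor.isoWhiskerLeft (QCohCat.isQCoh X).ι θ).symm⟩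

/-- Exactness of `M ↦ H^p(M ⊗^L F)` on quasi-coherent modules makes the fibre dimension locally
constant and `H^p` finite locally free. -/
theorem betti_of_exact_qcoh [QuasiSeparatedSpace X]
    (hE : DCoh.IsPseudoCoherentD (p - 1) (DCoh.toD X F))
    [PreservesFiniteLimits ((QCohCat.isQCoh X).ι ⋙ DerivedCategory.singleFunctor X.Modules 0 ⋙
        DCoh.LTensorCx F ⋙ DerivedCategory.homologyFunctor X.Modules p)]
    [PreservesFiniteColimits ((QCohCat.isQCoh X).ι ⋙ DerivedCategory.singleFunctor X.Modules 0 ⋙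
        DCoh.LTensorCx F ⋙ DerivedCategory.homologyFunctor X.Modules p)] :
    IsLocallyConstant (fun x : X => PerfD.betti (DCoh.toD X F) x p) ∧
      FlatMod.IsFinLocFree (DCoh.HD (DCoh.toD X F) p) := by
  let R := (kRes X).obj F
  have hR : DCoh.IsKFlat R := isKFlat_kRes F
  have hf : ∀ n, FlatMod.IsFlat (R.X n) := isFlat_kRes F
  let eR : DerivedCategory.Q.obj R ≅ DCoh.toD X F := (resQIso X).app F
  obtain ⟨θ⟩ := nonempty_ltensor_hT_iso F hR eR p
  have h₁ : PreservesFiniteLimits ((QCohCat.isQCoh X).ι ⋙ hT R p) :=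
    preservesFiniteLimits_of_natIso (Functor.isoWhiskerLeft (QCohCat.isQCoh X).ι θ)
  have h₂ : PreservesFiniteColimits ((QCohCat.isQCoh X).ι ⋙ hT R p) :=
    preservesFiniteColimits_of_natIso (Functor.isoWhiskerLeft (QCohCat.isQCoh X).ι θ)
  refine betti_of_mono_hT hR _ eR ((isPseudoCoherentD_iff _ _).1 hE) ?_
  rintro k (rfl | rfl) M N f hM hN hm
  · exact (preservesFiniteLimits_iff hf _).1 h₁ f hM hN hm
  · exact (preservesFiniteColimits_iff hf p).1 h₂ f hM hN hm

/-- Exactness of `M ↦ H^p(M ⊗^L F)` on all modules makes the fibre dimension locally constant and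
`H^p` finite locally free. -/
theorem betti_of_exact (hE : DCoh.IsPseudoCoherentD (p - 1) (DCoh.toD X F))
    [PreservesFiniteLimits (DerivedCategory.singleFunctor X.Modules 0 ⋙ DCoh.LTensorCx F ⋙
        DerivedCategory.homologyFunctor X.Modules p)]
    [PreservesFiniteColimits (DerivedCategory.singleFunctor X.Modules 0 ⋙ DCoh.LTensorCx F ⋙
        DerivedCategory.homologyFunctor X.Modules p)] :
    IsLocallyConstant (fun x : X => PerfD.betti (DCoh.toD X F) x p) ∧
      FlatMod.IsFinLocFree (DCoh.HD (DCoh.toD X F) p) := by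
  let R := (kRes X).obj F
  have hR : DCoh.IsKFlat R := isKFlat_kRes F
  have hf : ∀ n, FlatMod.IsFlat (R.X n) := isFlat_kRes F
  let eR : DerivedCategory.Q.obj R ≅ DCoh.toD X F := (resQIso X).app F
  obtain ⟨θ⟩ := nonempty_ltensor_hT_iso F hR eR p
  haveI : PreservesFiniteLimits (hT R p) := preservesFiniteLimits_of_natIso θ
  haveI : PreservesFiniteColimits (hT R p) := preservesFiniteColimits_of_natIso θ
  refine betti_of_mono_hT_of_class hR _ eR ((isPseudoCoherentD_iff _ _).1 hE) (fun _ => True)
    (fun _ _ _ _ => trivial) ?_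
  rintro k (rfl | rfl) M N f - - hm
  · haveI := hm
    infer_instance
  · let S : ShortComplex X.Modules := ShortComplex.mk f (cokernel.π f) (cokernel.condition f)
    have hS : S.ShortExact :=
      ShortComplex.ShortExact.mk' (ShortComplex.exact_of_g_is_cokernel S (cokernelIsCokernel f))
        hm inferInstance
    haveI : Epi ((hT R p).map S.g) := inferInstance
    exact mono_succ_of_epi_hT hf hS p

end Groth.Agent.Exactness
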