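import Groth.Agent.Exactness.Algebra
import Groth.Agent.Exactness.Functor
import Groth.Agent.KFlatLib.Scheme.TensorStalk
import Groth.Agent.KFlatLib.Scheme.TorQCoh
import Groth.Agent.KFlatLib.Perfect.BettiStalk

/-!
# Exactness of `M ↦ H^i(P ⊗ M)` in terms of the stalks of `P`
-/

set_option autoImplicit false
set_option linter.style.haveILetI false
set_option backward.isDefEq.respectTransparency false
set_option backward.isDefEq.respectTransparency.types false

universe u

open CategoryTheory CategoryTheory.Limits AlgebraicGeometry MonoidalCategory TopologicalSpace Opposite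

attribute [local instance] HasDerivedCategory.standard

namespace Groth.Agent.Exactness

open KFlatLib

variable {X : Scheme.{u}}

instance preservesHomology_stalk (x : X) : (DerSch.stalkFunctor X x).PreservesHomology :=
  Functor.preservesHomology_of_map_exact _ fun S hS => (exact_iff_stalk S).1 hS x

lemma mono_of_stalk {M N : X.Modules} (f : M ⟶ N)
    (h : ∀ x, Mono ((DerSch.stalkFunctor X x).map f)) : Mono f :=
  Preadditive.mono_of_isZero_kernel _ (isZero_of_stalk _ fun x =>
    haveI := h x
    (isZero_kernel_of_mono ((DerSch.stalkFunctor X x).map f)).of_iso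
      (PreservesKernel.iso (DerSch.stalkFunctor X x) f))

lemma epi_of_stalk {M N : X.Modules} (f : M ⟶ N)
    (h : ∀ x, Epi ((DerSch.stalkFunctor X x).map f)) : Epi f :=
  Preadditive.epi_of_isZero_cokernel _ (isZero_of_stalk _ fun x =>
    haveI := h x
    (isZero_cokernel_of_epi ((DerSch.stalkFunctor X x).map f)).of_iso
      (PreservesCokernel.iso (DerSch.stalkFunctor X x) f))

/-- Shortcut: short complexes of modules have homology. -/
local instance (priority := high) hasHomology_sc {A : Type u} [CommRing A]
    (S : ShortComplex (ModuleCat.{u} A)) : S.HasHomology :=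
  CategoryWithHomology.hasHomology S

/-- `L ↦ S ⊗ L`. -/
noncomputable def tensorSCF {A : Type u} [CommRing A] (S : ShortComplex (ModuleCat.{u} A)) :
    ModuleCat.{u} A ⥤ ShortComplex (ModuleCat.{u} A) where
  obj L := S.map (tensorRight L)
  map f := tensorMap S f
  map_id L := ShortComplex.hom_ext _ _ (MonoidalCategory.whiskerLeft_id _ _)
    (MonoidalCategory.whiskerLeft_id _ _) (MonoidalCategory.whiskerLeft_id _ _)
  map_comp f g := ShortComplex.hom_ext _ _ (MonoidalCategory.whiskerLeft_comp _ _ _)
    (MonoidalCategory.whiskerLeft_comp _ _ _) (MonoidalCategory.whiskerLeft_comp _ _ _)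

section Stalk

variable (P : CochainComplex X.Modules ℤ) (a i b : ℤ) (x : X)


/-- The stalk of three terms of a complex. -/
noncomputable abbrev stalkSC : ShortComplex (ModuleCat.{u} (X.presheaf.stalk x)) :=
  (P.sc' a i b).map (DerSch.stalkFunctor X x)

/-- `M ↦ P_x ⊗ M_x`, in three degrees. -/
noncomputable abbrev stalkTensorSC :
    X.Modules ⥤ ShortComplex (ModuleCat.{u} (X.presheaf.stalk x)) :=
  DerSch.stalkFunctor X x ⋙ tensorSCF (stalkSC P a i b x)

/-- The comparison of the stalk of `P ⊗ M` with `P_x ⊗ M_x`. -/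
noncomputable def stalkTensorSCIso :
    stalkTensorSC P a i b x ≅ tFun P ⋙ HomologicalComplex.shortComplexFunctor' X.Modules (ComplexShape.up ℤ) a i b ⋙
      (DerSch.stalkFunctor X x).mapShortComplex :=
  NatIso.ofComponents
    (fun M => ShortComplex.isoMk (stalkTensorIso x (P.X a) M) (stalkTensorIso x (P.X i) M)
      (stalkTensorIso x (P.X b) M)
      ((stalkTensorRightIso M x).inv.naturality (P.d a i)).symm
      ((stalkTensorRightIso M x).inv.naturality (P.d i b)).symm)
    fun {M N} f => by
      apply ShortComplex.hom_ext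
      · exact ((stalkTensorLeftIso (P.X a) x).inv.naturality f)
      · exact ((stalkTensorLeftIso (P.X i) x).inv.naturality f)
      · exact ((stalkTensorLeftIso (P.X b) x).inv.naturality f)

/-- The stalk of `H^i(P ⊗ M)`. -/
noncomputable def stalkHIso (hab : a + 1 = i) (hib : i + 1 = b) :
    hT P i ⋙ DerSch.stalkFunctor X x ≅
      stalkTensorSC P a i b x ⋙ ShortComplex.homologyFunctor _ :=
  Functor.isoWhiskerLeft (tFun P)
      (Functor.isoWhiskerRight
        (HomologicalComplex.homologyFunctorIso' X.Modules (ComplexShape.up ℤ) a i b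
          (by simp; omega) (by simp; omega)) (DerSch.stalkFunctor X x)) ≪≫
    Functor.isoWhiskerLeft (tFun P ⋙ HomologicalComplex.shortComplexFunctor' X.Modules (ComplexShape.up ℤ) a i b)
      (ShortComplex.homologyFunctorIso (DerSch.stalkFunctor X x)).symm ≪≫
    Functor.isoWhiskerRight (stalkTensorSCIso P a i b x).symm (ShortComplex.homologyFunctor _)

lemma mono_stalk_hT_iff (hab : a + 1 = i) (hib : i + 1 = b) {M N : X.Modules} (f : M ⟶ N) :
    Mono ((DerSch.stalkFunctor X x).map ((hT P i).map f)) ↔
      Mono (ShortComplex.homologyMap (tensorMap (stalkSC P a i b x) ((DerSch.stalkFunctor X x).map f))) :=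
  (MorphismProperty.monomorphisms _).arrow_mk_iso_iff
    (((Functor.mapArrowFunctor _ _).mapIso (stalkHIso P a i b x hab hib)).app (Arrow.mk f))

lemma epi_stalk_hT_iff (hab : a + 1 = i) (hib : i + 1 = b) {M N : X.Modules} (f : M ⟶ N) :
    Epi ((DerSch.stalkFunctor X x).map ((hT P i).map f)) ↔
      Epi (ShortComplex.homologyMap (tensorMap (stalkSC P a i b x) ((DerSch.stalkFunctor X x).map f))) :=
  (MorphismProperty.epimorphisms _).arrow_mk_iso_iff
    (((Functor.mapArrowFunctor _ _).mapIso (stalkHIso P a i b x hab hib)).app (Arrow.mk f))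

end Stalk

section Ring

variable {A : Type u} [CommRing A] {S : ShortComplex (ModuleCat.{u} A)}

/-- Regularity data after tensoring. -/
noncomputable def Reg.tensor (r : Reg S) (M : ModuleCat.{u} A) : Reg (S.map (tensorRight M)) where
  g₁ := r.g₁ ▷ M
  g₂ := r.g₂ ▷ M
  h₁ := by
    show (tensorRight M).map S.f ≫ (tensorRight M).map r.g₁ ≫ (tensorRight M).map S.f = _
    rw [← Functor.map_comp, ← Functor.map_comp, r.h₁]
    rfl
  h₂ := by
    show (tensorRight M).map S.g ≫ (tensorRight M).map r.g₂ ≫ (tensorRight M).map S.g = _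
    rw [← Functor.map_comp, ← Functor.map_comp, r.h₂]
    rfl

lemma Reg.compat_tensorMap (r : Reg S) {M N : ModuleCat.{u} A} (f : M ⟶ N) :
    (r.tensor M).Compat (r.tensor N) (tensorMap S f) :=
  ⟨whisker_exchange r.g₁ f, whisker_exchange r.g₂ f⟩

end Ring

/-- If the stalks of the differentials around degree `i` are regular and `P^i` is flat, then
`M ↦ H^i(P ⊗ M)` preserves monomorphisms and epimorphisms. -/
theorem preserves_hT_of_reg (P : CochainComplex X.Modules ℤ) (a i b : ℤ) (hab : a + 1 = i)
    (hib : i + 1 = b) (hflat : FlatMod.IsFlat (P.X i))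
    (h : ∀ x, Nonempty (Reg (stalkSC P a i b x))) {M N : X.Modules} (f : M ⟶ N) :
    (Mono f → Mono ((hT P i).map f)) ∧ (Epi f → Epi ((hT P i).map f)) := by
  refine ⟨fun _ => mono_of_stalk _ fun x => ?_, fun _ => epi_of_stalk _ fun x => ?_⟩
  · obtain ⟨r⟩ := h x
    rw [mono_stalk_hT_iff P a i b x hab hib]
    haveI : Module.Flat (X.presheaf.stalk x) (stalkSC P a i b x).X₂ := hflat x
    haveI : Mono (tensorMap (stalkSC P a i b x) ((DerSch.stalkFunctor X x).map f)).τ₂ :=
      (ModuleCat.mono_iff_injective _).2 (Module.Flat.lTensor_preserves_injective_linearMap _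
        ((ModuleCat.mono_iff_injective ((DerSch.stalkFunctor X x).map f)).1 inferInstance))
    exact Reg.mono_homologyMap (r.compat_tensorMap _)
  · obtain ⟨r⟩ := h x
    rw [epi_stalk_hT_iff P a i b x hab hib]
    haveI : Epi (tensorMap (stalkSC P a i b x) ((DerSch.stalkFunctor X x).map f)).τ₂ :=
      (ModuleCat.epi_iff_surjective _).2 (LinearMap.lTensor_surjective _
        ((ModuleCat.epi_iff_surjective ((DerSch.stalkFunctor X x).map f)).1 inferInstance))
    exact Reg.epi_homologyMap (r.compat_tensorMap _)

section Sky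

variable (x : X)

/-- The functor `N ↦ qcSky x N`. -/
noncomputable abbrev qcSkyF : ModuleCat.{u} (X.presheaf.stalk x) ⥤ X.Modules :=
  tilde.functor (X.presheaf.stalk x) ⋙ Scheme.Modules.pushforward (X.fromSpecStalk x)

/-- The stalk of `qcSkyF` at its point, naturally. -/
noncomputable def qcSkyFStalkIso : qcSkyF x ⋙ DerSch.stalkFunctor X x ≅ 𝟭 _ :=
  NatIso.ofComponents (fun N => qcSkyStalkIso x N) fun {N N'} f => by
    simp only [qcSkyStalkIso, Iso.trans_hom, Functor.comp_map, Functor.id_map]
    simp only [Iso.app_hom]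
    refine (Category.assoc _ _ _).symm.trans (Eq.trans (congrArg (· ≫ _)
      ((stalkToPIso x).hom.naturality ((qcSkyF x).map f))) ?_)
    refine (Category.assoc _ _ _).trans (Eq.trans ?_ (Category.assoc _ _ _).symm)
    refine congrArg _ ?_
    refine stalkMod_ext fun U hU s => ?_
    change qcSkyEval x N' (stalkModMap (DCoh.toP.map ((qcSkyF x).map f)) (germP _ U hU s)) =
      f (qcSkyEval x N (germP _ U hU s))
    rw [stalkModMap_germ]
    erw [qcSkyEval_germ, qcSkyEval_germ]
    let s' := (tilde N).presheaf.map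
      (homOfLE (fromSpecStalk_preimage_eq_top x hU).ge).op
      (show Γ(tilde N, (X.fromSpecStalk x) ⁻¹ᵁ U) from s)
    obtain ⟨n, hn⟩ : ∃ n, (tilde.isoTop N).hom n = s' :=
      ⟨(tilde.isoTop N).inv s', Iso.inv_hom_id_apply _ _⟩
    have h1 : qcSkyVal x N U hU s = n := by
      change (tilde.isoTop N).inv s' = n
      rw [← hn, Iso.hom_inv_id_apply]
    rw [h1]
    have h2 := ConcreteCategory.congr_hom (tilde.toOpen_map_app f ⊤) n
    change (tilde.isoTop N').inv _ = f n
    refine Eq.trans (congrArg _ ?_) (Iso.hom_inv_id_apply (tilde.isoTop N') (f n))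
    refine Eq.trans ?_ h2
    refine Eq.trans ?_ (congrArg ((modulesSpecToSheaf.map (tilde.map f)).1.app _) hn.symm)
    exact (ConcreteCategory.congr_hom (((Scheme.Modules.toPresheaf _).map (tilde.map f)).naturality
      (homOfLE (fromSpecStalk_preimage_eq_top x hU).ge).op) s).symm

instance : (qcSkyF x).PreservesMonomorphisms := by
  haveI := (Scheme.Modules.pullbackPushforwardAdjunction (X.fromSpecStalk x)).isRightAdjoint
  infer_instance

end Sky

/-- If `M ↦ H^i(P ⊗ M)` is injective at `x` on the quasi-coherent test modules, the cokernel of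
the differential into degree `i` is flat at `x`. -/
theorem flat_coker_of_sky (P : CochainComplex X.Modules ℤ) (a i b : ℤ) (hab : a + 1 = i)
    (hib : i + 1 = b) (x : X) (hflat : FlatMod.IsFlatAt (P.X b) x)
    (h : ∀ {M N : ModuleCat.{u} (X.presheaf.stalk x)} (g : M ⟶ N), Mono g →
      Mono ((DerSch.stalkFunctor X x).map ((hT P i).map ((qcSkyF x).map g)))) :
    Module.Flat (X.presheaf.stalk x) ((stalkSC P a i b x).X₂ ⧸ LinearMap.range (stalkSC P a i b x).f.hom) := by
  haveI : Module.Flat (X.presheaf.stalk x) (stalkSC P a i b x).X₃ := hflat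
  refine flat_coker_of_mono _ fun {M N} g hg => ?_
  have h1 := (mono_stalk_hT_iff P a i b x hab hib _).1 (h g hg)
  let G := tensorSCF (stalkSC P a i b x)
  exact ((MorphismProperty.monomorphisms _).arrow_mk_iso_iff
    ((G ⋙ ShortComplex.homologyFunctor _).mapArrow.mapIso
      (((Functor.mapArrowFunctor _ _).mapIso (qcSkyFStalkIso x)).app (Arrow.mk g)))).1 h1

end Groth.Agent.Exactness
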