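import Groth.Agent.Exactness.Functor
import Groth.Agent.KFlatLib.Scheme.PullTensorCx
import Groth.Agent.KFlatLib.Scheme.RpushBound
import Groth.Agent.KFlatLib.Perfect.Top

/-!
# `M ↦ H^p(R ⊗ M)` and restriction to opens
-/

set_option autoImplicit false
set_option linter.style.haveILetI false
set_option backward.isDefEq.respectTransparency false

universe u

open CategoryTheory CategoryTheory.Limits AlgebraicGeometry

attribute [local instance] HasDerivedCategory.standard

namespace Groth.Agent.Exactness

open KFlatLib

variable {X U : Scheme.{u}} (j : U ⟶ X) [IsOpenImmersion j]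

/-- Restriction commutes with tensor products. -/
noncomputable def restrictTensorBiIso :
    DCoh.tensorBi ⋙ (Functor.whiskeringRight _ _ _).obj (Scheme.Modules.restrictFunctor j) ≅
      Scheme.Modules.restrictFunctor j ⋙ DCoh.tensorBi ⋙
        (Functor.whiskeringLeft _ _ _).obj (Scheme.Modules.restrictFunctor j) :=
  Functor.isoWhiskerLeft DCoh.tensorBi
      ((Functor.whiskeringRight _ _ _).mapIso (Scheme.Modules.restrictFunctorIsoPullback j)) ≪≫
    pullTensorBiIso j ≪≫
    Functor.isoWhiskerRight (Scheme.Modules.restrictFunctorIsoPullback j).symm _ ≪≫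
    Functor.isoWhiskerLeft (Scheme.Modules.restrictFunctor j ⋙ DCoh.tensorBi)
      ((Functor.whiskeringLeft _ _ _).mapIso (Scheme.Modules.restrictFunctorIsoPullback j).symm)

/-- Restriction commutes with `M ↦ R ⊗ M`. -/
noncomputable def restrictTFunIso (R : CochainComplex X.Modules ℤ) :
    tFun R ⋙ rCx j ≅ Scheme.Modules.restrictFunctor j ⋙ tFun ((rCx j).obj R) :=
  NatIso.ofComponents
    (fun M => HomologicalComplex.Hom.isoOfComponents
      (fun n => (((restrictTensorBiIso j).app (R.X n)).app M :))
      (fun n n' _ => (NatTrans.congr_app ((restrictTensorBiIso j).hom.naturality (R.d n n')) M).symm))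
    fun {M N} f => by
      ext n : 1
      exact ((restrictTensorBiIso j).hom.app (R.X n)).naturality f

/-- Restriction commutes with homology. -/
noncomputable def restrictHomologyIso (p : ℤ) :
    HomologicalComplex.homologyFunctor X.Modules (ComplexShape.up ℤ) p ⋙
        Scheme.Modules.restrictFunctor j ≅
      rCx j ⋙ HomologicalComplex.homologyFunctor U.Modules (ComplexShape.up ℤ) p :=
  Functor.isoWhiskerRight (HomologicalComplex.homologyFunctorIso X.Modules (ComplexShape.up ℤ) p) _ ≪≫
    Functor.isoWhiskerLeft (HomologicalComplex.shortComplexFunctor X.Modules (ComplexShape.up ℤ) p)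
      (ShortComplex.homologyFunctorIso (Scheme.Modules.restrictFunctor j)).symm ≪≫
    Functor.isoWhiskerRight
      (NatIso.ofComponents (fun K => Iso.refl _) : HomologicalComplex.shortComplexFunctor X.Modules
          (ComplexShape.up ℤ) p ⋙ (Scheme.Modules.restrictFunctor j).mapShortComplex ≅
        rCx j ⋙ HomologicalComplex.shortComplexFunctor U.Modules (ComplexShape.up ℤ) p)
      (ShortComplex.homologyFunctor _) ≪≫
    Functor.isoWhiskerLeft (rCx j)
      (HomologicalComplex.homologyFunctorIso U.Modules (ComplexShape.up ℤ) p).symm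

/-- Restriction commutes with `M ↦ H^p(R ⊗ M)`. -/
noncomputable def restrictHTIso (R : CochainComplex X.Modules ℤ) (p : ℤ) :
    hT R p ⋙ Scheme.Modules.restrictFunctor j ≅
      Scheme.Modules.restrictFunctor j ⋙ hT ((rCx j).obj R) p :=
  Functor.isoWhiskerLeft (tFun R) (restrictHomologyIso j p) ≪≫
    Functor.isoWhiskerRight (restrictTFunIso j R)
      (HomologicalComplex.homologyFunctor U.Modules (ComplexShape.up ℤ) p)

/-- A module that vanishes on the members of a family of open immersions covering the scheme
vanishes. -/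
lemma isZero_of_cover (A : X.Modules)
    (h : ∀ x : X, ∃ (U : Scheme.{u}) (j : U ⟶ X) (_ : IsOpenImmersion j), x ∈ Set.range j.base ∧
      IsZero ((Scheme.Modules.restrictFunctor j).obj A)) : IsZero A := by
  refine isZero_of_isZero_restrict A fun x => ?_
  obtain ⟨U, j, _, hx, hz⟩ := h x
  exact ⟨j.opensRange, hx,
    ((Scheme.Modules.restrictFunctor (rangeHom j)).map_isZero hz).of_iso
      (restrict₂Iso (rangeHom j) j j.opensRange.ι (rangeHom_fac j) A).symm⟩

lemma mono_of_cover {M N : X.Modules} (f : M ⟶ N)
    (h : ∀ x : X, ∃ (U : Scheme.{u}) (j : U ⟶ X) (_ : IsOpenImmersion j), x ∈ Set.range j.base ∧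
      Mono ((Scheme.Modules.restrictFunctor j).map f)) : Mono f := by
  refine Preadditive.mono_of_isZero_kernel _ (isZero_of_cover _ fun x => ?_)
  obtain ⟨U, j, hj, hx, hm⟩ := h x
  haveI := hm
  exact ⟨U, j, hj, hx, (isZero_kernel_of_mono ((Scheme.Modules.restrictFunctor j).map f)).of_iso
    (PreservesKernel.iso (Scheme.Modules.restrictFunctor j) f)⟩

lemma epi_of_cover {M N : X.Modules} (f : M ⟶ N)
    (h : ∀ x : X, ∃ (U : Scheme.{u}) (j : U ⟶ X) (_ : IsOpenImmersion j), x ∈ Set.range j.base ∧
      Epi ((Scheme.Modules.restrictFunctor j).map f)) : Epi f := by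
  refine Preadditive.epi_of_isZero_cokernel _ (isZero_of_cover _ fun x => ?_)
  obtain ⟨U, j, hj, hx, hm⟩ := h x
  haveI := hm
  exact ⟨U, j, hj, hx, (isZero_cokernel_of_epi ((Scheme.Modules.restrictFunctor j).map f)).of_iso
    (PreservesCokernel.iso (Scheme.Modules.restrictFunctor j) f)⟩

end Groth.Agent.Exactness
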