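import Groth.Agent.Exactness.Core
import Groth.Agent.Exactness.Restrict
import Groth.Agent.KFlatLib.Perfect.BettiCor
import Groth.Agent.QCoh.Qcqs

/-!
# Exactness of `M ↦ H^p(R ⊗ M)` and local constancy of the fibre dimensions
-/

set_option autoImplicit false
set_option linter.style.haveILetI false
set_option backward.isDefEq.respectTransparency false

universe u

open CategoryTheory CategoryTheory.Limits AlgebraicGeometry TopologicalSpace Opposite Module

attribute [local instance] HasDerivedCategory.standard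

namespace Groth.Agent.Exactness

open KFlatLib

variable {X : Scheme.{u}}

/-- Local free data computing `hT R` and the fibre dimensions above degree `m`. -/
lemma exists_local_data [∀ x : X, DCoh.HasLpull (X.fromSpecResidueField x)]
    {R : CochainComplex X.Modules ℤ} (hR : DCoh.IsKFlat R)
    (E : DCoh.D X) (eR : DerivedCategory.Q.obj R ≅ E) {m : ℤ} (hpc : LocPC m E) (x : X) :
    ∃ (U : Scheme.{u}) (j : U ⟶ X) (_ : IsOpenImmersion j) (_ : x ∈ Set.range j.base)
      (P : CochainComplex U.Modules ℤ) (n : ℤ → ℕ) (e : ∀ i, P.X i ≅ FlatMod.freeMod U (n i)),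
      (∀ k, m < k → Nonempty (hT P k ≅ hT ((rCx j).obj R) k)) ∧
      (∀ k, m < k → Nonempty (P.homology k ≅ (DCoh.HD E k).restrict j)) ∧
      ∀ (a i b : ℤ), a + 1 = i → i + 1 = b → m < i → ∀ y : U,
        PerfD.betti E (j.base y) i + rkAt (dMat e a i) y + rkAt (dMat e i b) y = n i := by
  obtain ⟨U, j, hj, hx, P, n, e, α, hP, hα⟩ := exists_betti_data E hpc x
  let eR' : (rho j).obj E ≅ DerivedCategory.Q.obj ((rCx j).obj R) :=
    (rho j).mapIso eR.symm ≪≫ (rhoQ j).app R
  refine ⟨U, j, hj, hx, P, n, e, fun k hk => ?_, fun k hk => ?_, fun a i b hab hib hi y =>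
    betti_formula E _ j y rfl hP e α hα a i b hab hib hi⟩
  · exact nonempty_hT_natIso hP (isKFlat_restrict j hR) (α ≫ eR'.hom)
      (hα.comp (isPcMap_of_isIso m _)) hk
  · haveI := hα.1 k hk
    exact ⟨((DerivedCategory.homologyFunctorFactors _ k).app P).symm ≪≫
      asIso ((DerivedCategory.homologyFunctor _ k).map α) ≪≫ hdRhoIso j E k⟩

lemma mono_restrict_hT_iff {U : Scheme.{u}} (j : U ⟶ X) [IsOpenImmersion j]
    (R : CochainComplex X.Modules ℤ) {P : CochainComplex U.Modules ℤ} {k : ℤ}
    (θ : hT P k ≅ hT ((rCx j).obj R) k) {M N : X.Modules} (f : M ⟶ N) :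
    Mono ((Scheme.Modules.restrictFunctor j).map ((hT R k).map f)) ↔
      Mono ((hT P k).map ((Scheme.Modules.restrictFunctor j).map f)) :=
  (MorphismProperty.monomorphisms _).arrow_mk_iso_iff
    (((Functor.mapArrowFunctor _ _).mapIso
      (restrictHTIso j R k ≪≫ Functor.isoWhiskerLeft _ θ.symm)).app (Arrow.mk f))

lemma epi_restrict_hT_iff {U : Scheme.{u}} (j : U ⟶ X) [IsOpenImmersion j]
    (R : CochainComplex X.Modules ℤ) {P : CochainComplex U.Modules ℤ} {k : ℤ}
    (θ : hT P k ≅ hT ((rCx j).obj R) k) {M N : X.Modules} (f : M ⟶ N) :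
    Epi ((Scheme.Modules.restrictFunctor j).map ((hT R k).map f)) ↔
      Epi ((hT P k).map ((Scheme.Modules.restrictFunctor j).map f)) :=
  (MorphismProperty.epimorphisms _).arrow_mk_iso_iff
    (((Functor.mapArrowFunctor _ _).mapIso
      (restrictHTIso j R k ≪≫ Functor.isoWhiskerLeft _ θ.symm)).app (Arrow.mk f))

variable [∀ x : X, DCoh.HasLpull (X.fromSpecResidueField x)]
  {R : CochainComplex X.Modules ℤ} (hR : DCoh.IsKFlat R)
  (E : DCoh.D X) (eR : DerivedCategory.Q.obj R ≅ E) {p : ℤ} (hpc : LocPC (p - 1) E)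

include hR eR hpc in
/-- On a reduced scheme, a locally constant fibre dimension in degree `p` makes `M ↦ H^p(R ⊗ M)`
exact on all modules. -/
theorem preserves_hT_of_betti [IsReduced X]
    (hc : IsLocallyConstant fun x : X => PerfD.betti E x p) {M N : X.Modules} (f : M ⟶ N) :
    (Mono f → Mono ((hT R p).map f)) ∧ (Epi f → Epi ((hT R p).map f)) := by
  have key : ∀ x : X, ∃ (U : Scheme.{u}) (j : U ⟶ X) (_ : IsOpenImmersion j),
      x ∈ Set.range j.base ∧
      (Mono f → Mono ((Scheme.Modules.restrictFunctor j).map ((hT R p).map f))) ∧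
      (Epi f → Epi ((Scheme.Modules.restrictFunctor j).map ((hT R p).map f))) := fun x => by
    obtain ⟨U, j, hj, hx, P, n, e, hθ, -, hb⟩ := exists_local_data hR E eR hpc x
    obtain ⟨θ⟩ := hθ p (by omega)
    haveI : IsReduced U := isReduced_of_isOpenImmersion j
    have hb' := hb (p - 1) p (p + 1) (by omega) rfl (by omega)
    have hreg : ∀ y : U, RegAt P (p - 1) p y ∧ RegAt P p (p + 1) y := fun y => by
      refine regAt_of_sum_eventually e ?_
      have hc' := (j.base.hom.continuous.tendsto y).eventually (hc.eventually_eq (j.base y))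
      filter_upwards [hc'] with z hz
      have hz' : PerfD.betti E (j.base z) p = PerfD.betti E (j.base y) p := hz
      have := hb' z
      have := hb' y
      omega
    refine ⟨U, j, hj, hx, fun hf => ?_, fun hf => ?_⟩
    · rw [mono_restrict_hT_iff j R θ f]
      exact (preserves_hT_of_reg P (p - 1) p (p + 1) (by omega) rfl (isFlat_X e p)
        (fun y => nonempty_reg (hreg y).1 (hreg y).2) _).1 inferInstance
    · rw [epi_restrict_hT_iff j R θ f]
      exact (preserves_hT_of_reg P (p - 1) p (p + 1) (by omega) rfl (isFlat_X e p)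
        (fun y => nonempty_reg (hreg y).1 (hreg y).2) _).2 inferInstance
  refine ⟨fun hf => mono_of_cover _ fun x => ?_, fun hf => epi_of_cover _ fun x => ?_⟩
  · obtain ⟨U, j, hj, hx, h, -⟩ := key x
    exact ⟨U, j, hj, hx, h hf⟩
  · obtain ⟨U, j, hj, hx, -, h⟩ := key x
    exact ⟨U, j, hj, hx, h hf⟩

include hR eR hpc in
/-- If `M ↦ H^k(R ⊗ M)` preserves monomorphisms of quasi-coherent modules for `k = p, p + 1`, the
fibre dimension in degree `p` is locally constant and `H^p` is finite locally free. -/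
theorem betti_of_mono_hT_of_class (C : X.Modules → Prop)
    (hC : ∀ {U : Scheme.{u}} (j : U ⟶ X) [IsOpenImmersion j] (z : U)
      (L : ModuleCat.{u} (U.presheaf.stalk z)),
      C ((Scheme.Modules.pushforward j).obj ((qcSkyF z).obj L)))
    (h : ∀ k, (k = p ∨ k = p + 1) → ∀ {M N : X.Modules} (f : M ⟶ N), C M → C N →
      Mono f → Mono ((hT R k).map f)) :
    IsLocallyConstant (fun x : X => PerfD.betti E x p) ∧ FlatMod.IsFinLocFree (DCoh.HD E p) := by
  have key : ∀ x : X, ∃ (U : Scheme.{u}) (j : U ⟶ X) (_ : IsOpenImmersion j) (y : U),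
      j.base y = x ∧ (∀ᶠ z in nhds y, PerfD.betti E (j.base z) p = PerfD.betti E (j.base y) p) ∧
      FlatMod.IsFinLocFree ((DCoh.HD E p).restrict j) := fun x => by
    obtain ⟨U, j, hj, ⟨y, rfl⟩, P, n, e, hθ, hH, hb⟩ := exists_local_data hR E eR hpc x
    have hb' := hb (p - 1) p (p + 1) (by omega) rfl (by omega)
    have hreg : ∀ (a i b : ℤ), a + 1 = i → i + 1 = b → (i = p ∨ i = p + 1) →
        ∀ z : U, RegAt P a i z := fun a i b hab hib hi z => by
      refine regAt_of_sky e hab hib z fun {M N} g hg => ?_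
      obtain ⟨θ⟩ := hθ i (by omega)
      let pu := Scheme.Modules.pushforward j
      let f := (qcSkyF z).map g
      haveI : Mono f := by
        haveI := hg
        infer_instance
      haveI := (Scheme.Modules.pullbackPushforwardAdjunction j).isRightAdjoint
      haveI : Mono (pu.map f) := inferInstance
      have hqc : ∀ L, C (pu.obj ((qcSkyF z).obj L)) := fun L => hC j z L
      haveI := (mono_restrict_hT_iff j R θ (pu.map f)).1
        (by haveI := h i hi (pu.map f) (hqc M) (hqc N) inferInstance; infer_instance)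
      haveI : Mono ((hT P i).map f) :=
        ((MorphismProperty.monomorphisms _).arrow_mk_iso_iff
          ((hT P i).mapArrow.mapIso (((Functor.mapArrowFunctor _ _).mapIso
            (asIso (Scheme.Modules.restrictAdjunction j).counit)).app (Arrow.mk f)))).1
          (inferInstanceAs (Mono ((hT P i).map ((Scheme.Modules.restrictFunctor j).map (pu.map f)))))
      infer_instance
    have h₁ : ∀ z, RegAt P (p - 1) p z := hreg _ p _ (by omega) rfl (Or.inl rfl)
    have h₂ : ∀ z, RegAt P p (p + 1) z := hreg _ (p + 1) _ rfl rfl (Or.inr rfl)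
    refine ⟨U, j, hj, y, rfl, ?_, ?_⟩
    · filter_upwards [eventually_rkAt_eq_of_regAt e (h₁ y), eventually_rkAt_eq_of_regAt e (h₂ y)]
        with z hz₁ hz₂
      have := hb' z
      have := hb' y
      omega
    · obtain ⟨eH⟩ := hH p (by omega)
      exact H23.PullPush.isFinLocFree_of_iso eH
        (isFinLocFree_homology_of_regAt e (by omega) rfl h₁ h₂)
  refine ⟨(IsLocallyConstant.iff_eventually_eq _).2 fun x => ?_, isFinLocFree_of_restrict fun x => ?_⟩
  · obtain ⟨U, j, hj, y, rfl, hy, -⟩ := key x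
    rw [← j.isOpenEmbedding.map_nhds_eq y]
    exact hy
  · obtain ⟨U, j, hj, y, rfl, -, hF⟩ := key x
    exact ⟨j.opensRange, ⟨y, rfl⟩, H23.PullPush.isFinLocFree_of_iso
      ((restrict₂Iso (rangeHom j) j j.opensRange.ι (rangeHom_fac j) (DCoh.HD E p)))
      (H23.PullPush.isFinLocFree_of_iso
        ((Scheme.Modules.restrictFunctorIsoPullback (rangeHom j)).symm.app _)
        (isFinLocFree_pullback (rangeHom j) hF))⟩

include hR eR hpc in
/-- The same, with quasi-coherent modules as test modules on a quasi-separated scheme. -/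
theorem betti_of_mono_hT [QuasiSeparatedSpace X]
    (h : ∀ k, (k = p ∨ k = p + 1) → ∀ {M N : X.Modules} (f : M ⟶ N), Coh.IsQCoh M → Coh.IsQCoh N →
      Mono f → Mono ((hT R k).map f)) :
    IsLocallyConstant (fun x : X => PerfD.betti E x p) ∧ FlatMod.IsFinLocFree (DCoh.HD E p) :=
  betti_of_mono_hT_of_class hR E eR hpc Coh.IsQCoh
    (fun {U} j _ z L => by
      refine (QCoh.isQCoh_iff_iso
        ((Scheme.Modules.pushforwardComp (U.fromSpecStalk z) j).app (tilde L))).2 ?_
      exact QCoh.isQCoh_pushforward _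
        (QCoh.isQCoh_spec_iff.2 ((tilde.functor _).obj_mem_essImage L))) h

end Groth.Agent.Exactness
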