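import Groth.Agent.Exactness.Final
import Groth.Agent.KFlatLib.Scheme.ProjFormula
import Groth.Agent.PushAmp.RelPCPush

/-!
# `M ↦ R^p f_*(Lf^* M ⊗^L F)` is `M ↦ H^p(R ⊗ M)` for a representative `R` of `Rf_* F`
-/

set_option autoImplicit false
set_option linter.style.haveILetI false
set_option backward.isDefEq.respectTransparency false

universe u

open CategoryTheory CategoryTheory.Limits AlgebraicGeometry

attribute [local instance] HasDerivedCategory.standard

namespace Groth.Agent.Exactness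

open KFlatLib

variable {X Y : Scheme.{u}}

lemma isQCohD_single (M : Y.Modules) (hM : Coh.IsQCoh M) :
    DCoh.IsQCohD (DerivedCategory.Q.obj
      ((HomologicalComplex.single Y.Modules (ComplexShape.up ℤ) 0).obj M)) := by
  let K := (DerivedCategory.singleFunctor Y.Modules 0).obj M
  refine isQCohD_of_iso ((DerivedCategory.singleFunctorIsoCompQ Y.Modules 0).app M) fun i => ?_
  rcases lt_trichotomy i 0 with hi | rfl | hi
  · exact isQCoh_of_isZero (DerivedCategory.isZero_of_isGE K 0 i hi)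
  · exact KFlatLib.isQCoh_of_iso
      ((DerivedCategory.singleFunctorCompHomologyFunctorIso Y.Modules 0).app M).symm hM
  · exact isQCoh_of_isZero (DerivedCategory.isZero_of_isLE K 0 i hi)

/-- A K-flat complex on the left preserves quasi-isomorphisms. -/
lemma quasiIso_tensorCx_obj_map {X : Scheme.{u}} {K : CochainComplex X.Modules ℤ} (hK : DCoh.IsKFlat K)
    {A B : CochainComplex X.Modules ℤ} (t : A ⟶ B) [QuasiIso t] :
    QuasiIso ((DCoh.tensorCx.obj K).map t) := by
  haveI : QuasiIso ((DCoh.tensorCx.flip.obj K).map t) := S0949.result K hK t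
  exact (quasiIso_iff_of_arrow_mk_iso ((DCoh.tensorCx.flip.obj K).map t) ((DCoh.tensorCx.obj K).map t)
    (((Functor.mapArrowFunctor _ _).mapIso (symmIso (tensorBiFlipIso X) K)).app (Arrow.mk t))).1
      inferInstance

section

variable (Y)

/-- A K-flat resolution of a quasi-coherent module in degree zero. -/
noncomputable abbrev resSingle : (QCohCat.isQCoh Y).FullSubcategory ⥤ CochainComplex Y.Modules ℤ :=
  (QCohCat.isQCoh Y).ι ⋙ HomologicalComplex.single Y.Modules (ComplexShape.up ℤ) 0 ⋙ kRes Y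

end

variable (f : X ⟶ Y)

/-- `Lf^* M ⊗^L F` on quasi-coherent modules. -/
lemma nonempty_lpull_ltensor_single (F : CochainComplex X.Modules ℤ) [DCoh.HasLpull f]
    [DCoh.HasLTensorCx F] {I : CochainComplex X.Modules ℤ} (t : F ⟶ I) [QuasiIso t] :
    Nonempty ((QCohCat.isQCoh Y).ι ⋙ DerivedCategory.singleFunctor Y.Modules 0 ⋙ DCoh.Lpull f ⋙
        DCoh.LTensorCx F ≅
      resSingle Y ⋙ (pullCx f ⋙ DCoh.tensorCx.obj I) ⋙ DerivedCategory.Q) := by
  let ι := (QCohCat.isQCoh Y).ι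
  let S := HomologicalComplex.single Y.Modules (ComplexShape.up ℤ) 0
  let K := resSingle Y
  have hK : ∀ M, DCoh.IsKFlat (K.obj M) := fun M => isKFlat_kRes _
  let QY := (DerivedCategory.Q : CochainComplex Y.Modules ℤ ⥤ DCoh.D Y)
  let QX := (DerivedCategory.Q : CochainComplex X.Modules ℤ ⥤ DCoh.D X)
  let k₁ : ι ⋙ DerivedCategory.singleFunctor Y.Modules 0 ⋙ DCoh.Lpull f ≅
      K ⋙ QY ⋙ DCoh.Lpull f :=
    Functor.isoWhiskerLeft ι
        (Functor.isoWhiskerRight (DerivedCategory.singleFunctorIsoCompQ Y.Modules 0) _) ≪≫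
      Functor.isoWhiskerLeft (ι ⋙ S) (Functor.isoWhiskerRight (resQIso Y).symm (DCoh.Lpull f))
  let l₂ := Functor.whiskerLeft K (lpullComparison f)
  haveI : ∀ M, IsIso (l₂.app M) := fun M => isIso_lpullComparison f (hK M)
  haveI : IsIso l₂ := NatIso.isIso_of_isIso_app _
  let c := Functor.whiskerLeft (K ⋙ pullCx f)
    ((DCoh.tensorCxQ F).totalLeftDerivedCounit DerivedCategory.Q (qisX X))
  haveI : ∀ M, IsIso (c.app M) := fun M => isIso_LTensorCx_counit F (isKFlat_pullback f (hK M))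
  haveI : IsIso c := NatIso.isIso_of_isIso_app _
  let k₂ : ι ⋙ DerivedCategory.singleFunctor Y.Modules 0 ⋙ DCoh.Lpull f ⋙ DCoh.LTensorCx F ≅
      (K ⋙ pullCx f) ⋙ DCoh.tensorCxQ F :=
    Functor.isoWhiskerRight k₁ (DCoh.LTensorCx F) ≪≫
      Functor.isoWhiskerRight (asIso l₂) (DCoh.LTensorCx F) ≪≫ asIso c
  let tI := Functor.whiskerLeft (K ⋙ pullCx f) (Functor.whiskerRight (DCoh.tensorCx.flip.map t) QX)
  haveI : ∀ M, IsIso (tI.app M) := fun M =>
    isIso_Q_map _ (quasiIso_tensorCx_obj_map (isKFlat_pullback f (hK M)) t)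
  haveI : IsIso tI := NatIso.isIso_of_isIso_app _
  let k₃ : (K ⋙ pullCx f) ⋙ DCoh.tensorCxQ F ≅ K ⋙ (pullCx f ⋙ DCoh.tensorCx.obj I) ⋙ QX :=
    asIso tI ≪≫ Functor.isoWhiskerLeft (K ⋙ pullCx f)
      (Functor.isoWhiskerRight (symmIso (tensorBiFlipIso X) I) QX)
  exact ⟨k₂ ≪≫ k₃⟩

/-- The projection map on resolved quasi-coherent modules. -/
lemma nonempty_proj_single [QuasiCompact f] [QuasiSeparated f] [DCoh.HasRpush f]
    {R : CochainComplex Y.Modules ℤ} (hR : DCoh.IsKFlat R) {I : CochainComplex X.Modules ℤ}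
    [I.IsKInjective] (hI : DCoh.IsQCohD (DerivedCategory.Q.obj I))
    (a : R ⟶ (pushCxF f).obj I) [QuasiIso a] :
    Nonempty ((resSingle Y ⋙ (pullCx f ⋙ DCoh.tensorCx.obj I) ⋙ DerivedCategory.Q) ⋙ DCoh.Rpush f ≅
      resSingle Y ⋙ DCoh.tensorCx.obj R ⋙ DerivedCategory.Q) := by
  let S := HomologicalComplex.single Y.Modules (ComplexShape.up ℤ) 0
  let K := resSingle Y
  let Θ := Functor.whiskerLeft K (projΘ f I a)
  haveI : ∀ M, IsIso (Θ.app M) := fun M => by
    haveI := isIso_Q_map _ ((flatCover Y).quasiIso_ψ (S.obj M.obj))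
    haveI := isIso_projθ f I a hR hI (K.obj M) (isQCohD_of_iso
      (asIso (DerivedCategory.Q.map ((flatCover Y).ψ.app (S.obj M.obj)))).symm
      (isQCohD_single M.obj M.property))
    have hK : DCoh.IsKFlat (K.obj M) := isKFlat_kRes _
    haveI := isIso_kLiftε (kRespects_tensor R) hK
    haveI := isIso_kLiftε (kRespects_pullTensor f I) hK
    exact (isIso_comp_left_iff ((kLiftε (kRespects_tensor R)).app (K.obj M)) _).1
      (projθ_comp_ε f I a (K.obj M) ▸ inferInstance)
  haveI : IsIso Θ := NatIso.isIso_of_isIso_app _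
  exact ⟨(asIso Θ).symm⟩

/-- Removing a resolution inside a composite functor. -/
lemma nonempty_iso_of_resolution {A B C D E F : Type*} [Category A] [Category B] [Category C]
    [Category D] [Category E] [Category F] (ι : A ⥤ B) (S : B ⥤ C) {P : C ⥤ C} (ψ : P ⟶ 𝟭 C)
    (T : C ⥤ D) (Q : D ⥤ E) (Hp : E ⥤ F) {H : D ⥤ F} (e : Q ⋙ Hp ≅ H) {t : B ⥤ D} (s : S ⋙ T ≅ t)
    (hψ : ∀ M, IsIso (Q.map (T.map (ψ.app (S.obj (ι.obj M)))))) :
    Nonempty (((ι ⋙ S ⋙ P) ⋙ T ⋙ Q) ⋙ Hp ≅ ι ⋙ t ⋙ H) := by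
  haveI := hψ
  exact ⟨NatIso.ofComponents
    (fun M => Hp.mapIso (asIso (Q.map (T.map (ψ.app (S.obj (ι.obj M)))))) ≪≫ e.app _ ≪≫
      H.mapIso (s.app (ι.obj M)))
    fun {M N} g => by
      have h1 := ψ.naturality (S.map (ι.map g))
      have h3 := s.hom.naturality (ι.map g)
      simp only [Functor.comp_map, Functor.id_map] at h1 h3
      simp only [Functor.comp_map, Iso.trans_hom, Functor.mapIso_hom, asIso_hom, Iso.app_hom,
        Category.assoc]
      rw [← Functor.map_comp_assoc, ← Functor.map_comp, ← Functor.map_comp, h1,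
        Functor.map_comp, Functor.map_comp, Functor.map_comp_assoc]
      erw [e.hom.naturality_assoc]
      congr 2
      rw [← Functor.map_comp, ← Functor.map_comp]
      exact congrArg _ h3⟩

/-- Homology of a K-flat complex tensored with resolved modules. -/
lemma nonempty_resSingle_hT {R : CochainComplex Y.Modules ℤ} (hR : DCoh.IsKFlat R) (p : ℤ) :
    Nonempty ((resSingle Y ⋙ DCoh.tensorCx.obj R ⋙ DerivedCategory.Q) ⋙
        DerivedCategory.homologyFunctor Y.Modules p ≅ (QCohCat.isQCoh Y).ι ⋙ hT R p) :=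
  nonempty_iso_of_resolution (QCohCat.isQCoh Y).ι
    (HomologicalComplex.single Y.Modules (ComplexShape.up ℤ) 0) (flatCover Y).ψ
    (DCoh.tensorCx.obj R) DerivedCategory.Q (DerivedCategory.homologyFunctor Y.Modules p)
    (DerivedCategory.homologyFunctorFactors Y.Modules p) (singleTFunIso R)
    fun M => by
      haveI := (flatCover Y).quasiIso_ψ
        ((HomologicalComplex.single Y.Modules (ComplexShape.up ℤ) 0).obj M.obj)
      exact isIso_Q_map _ (quasiIso_tensorCx_obj_map hR ((flatCover Y).ψ.app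
        ((HomologicalComplex.single Y.Modules (ComplexShape.up ℤ) 0).obj M.obj)))

/-- The projection formula on quasi-coherent modules, naturally in the module. -/
theorem nonempty_push_hT_iso [QuasiCompact f] [QuasiSeparated f]
    (F : CochainComplex X.Modules ℤ) (hF : DCoh.IsQCohD (DCoh.toD X F))
    [DCoh.HasLpull f] [DCoh.HasLTensorCx F] [DCoh.HasRpush f] :
    ∃ R : CochainComplex Y.Modules ℤ, DCoh.IsKFlat R ∧ (∀ n, FlatMod.IsFlat (R.X n)) ∧
      Nonempty (DerivedCategory.Q.obj R ≅ (DCoh.Rpush f).obj (DCoh.toD X F)) ∧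
      ∀ p : ℤ, Nonempty ((QCohCat.isQCoh Y).ι ⋙ hT R p ≅
        (QCohCat.isQCoh Y).ι ⋙ DerivedCategory.singleFunctor Y.Modules 0 ⋙ DCoh.Lpull f ⋙
          DCoh.LTensorCx F ⋙ DCoh.Rpush f ⋙ DerivedCategory.homologyFunctor Y.Modules p) := by
  obtain ⟨I, t, hI, ht, -, -⟩ := Groth.Agent.TriCat.exists_kInjective_resolution'.{u} F
  haveI := hI
  haveI := ht
  haveI := isIso_Q_map t ht
  let R := (kRes Y).obj ((pushCxF f).obj I)
  let a : R ⟶ (pushCxF f).obj I := (flatCover Y).ψ.app _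
  haveI : QuasiIso a := (flatCover Y).quasiIso_ψ _
  haveI := isIso_Q_map a inferInstance
  have hR : DCoh.IsKFlat R := isKFlat_kRes _
  have hI' : DCoh.IsQCohD (DerivedCategory.Q.obj I) :=
    isQCohD_of_iso (asIso (DerivedCategory.Q.map t)) hF
  obtain ⟨eI⟩ := nonempty_rpush_iso_of_kInjective (f := f) (I := I) (Iso.refl _)
  let eR : DerivedCategory.Q.obj R ≅ (DCoh.Rpush f).obj (DCoh.toD X F) :=
    asIso (DerivedCategory.Q.map a) ≪≫ eI.symm ≪≫
      (DCoh.Rpush f).mapIso (asIso (DerivedCategory.Q.map t)).symm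
  refine ⟨R, hR, fun n => isFlat_kRes _ n, ⟨eR⟩, fun p => ?_⟩
  obtain ⟨k₁⟩ := nonempty_lpull_ltensor_single f F t
  obtain ⟨k₂⟩ := nonempty_proj_single f hR hI' a
  obtain ⟨k₃⟩ := nonempty_resSingle_hT hR p
  exact ⟨(Functor.isoWhiskerRight (Functor.isoWhiskerRight k₁ (DCoh.Rpush f) ≪≫ k₂)
    (DerivedCategory.homologyFunctor Y.Modules p) ≪≫ k₃).symm⟩

end Groth.Agent.Exactness
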