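import Groth.Agent.Exactness.Push

/-!
# Exactness of `M ↦ R^p f_*(Lf^* M ⊗^L F)`
-/

set_option autoImplicit false
set_option linter.style.haveILetI false
set_option backward.isDefEq.respectTransparency false

universe u

open CategoryTheory CategoryTheory.Limits AlgebraicGeometry

attribute [local instance] HasDerivedCategory.standard

namespace Groth.Agent.Exactness

open KFlatLib

variable {X Y : Scheme.{u}} (f : X ⟶ Y) (F : CochainComplex X.Modules ℤ)
  [DCoh.HasLpull f] [DCoh.HasLTensorCx F] [DCoh.HasRpush f]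

/-- `R^p f_*(Lf^* - ⊗^L F)` is right exact iff `R^{p+1} f_*(Lf^* - ⊗^L F)` is left exact. -/
theorem rightExact_iff_leftExact_succ [QuasiCompact f] [QuasiSeparated f]
    (hF : DCoh.IsQCohD (DCoh.toD X F)) (p : ℤ) :
    PreservesFiniteColimits ((QCohCat.isQCoh Y).ι ⋙ DerivedCategory.singleFunctor Y.Modules 0 ⋙
        DCoh.Lpull f ⋙ DCoh.LTensorCx F ⋙ DCoh.Rpush f ⋙ DerivedCategory.homologyFunctor Y.Modules p) ↔
      PreservesFiniteLimits ((QCohCat.isQCoh Y).ι ⋙ DerivedCategory.singleFunctor Y.Modules 0 ⋙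
        DCoh.Lpull f ⋙ DCoh.LTensorCx F ⋙ DCoh.Rpush f ⋙
          DerivedCategory.homologyFunctor Y.Modules (p + 1)) := by
  obtain ⟨R, -, hf, -, hθ⟩ := nonempty_push_hT_iso f F hF
  obtain ⟨θ⟩ := hθ p
  obtain ⟨θ'⟩ := hθ (p + 1)
  constructor
  · intro h
    haveI : PreservesFiniteLimits ((QCohCat.isQCoh Y).ι ⋙ hT R (p + 1)) :=
      (preservesFiniteLimits_iff hf _).2
        ((preservesFiniteColimits_iff hf p).1 (preservesFiniteColimits_of_natIso θ.symm))
    exact preservesFiniteLimits_of_natIso θ'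
  · intro h
    haveI : PreservesFiniteColimits ((QCohCat.isQCoh Y).ι ⋙ hT R p) :=
      (preservesFiniteColimits_iff hf p).2
        ((preservesFiniteLimits_iff hf _).1 (preservesFiniteLimits_of_natIso θ'.symm))
    exact preservesFiniteColimits_of_natIso θ

omit [DCoh.HasLpull f] [DCoh.HasLTensorCx F] in
/-- Direct images of relatively perfect bounded objects along proper maps to Noetherian schemes are
pseudo-coherent. -/
lemma locPC_rpush [IsNoetherian Y] [IsProper f] (a : ℤ) [(DCoh.toD X F).IsGE a]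
    (hF : DerSch.IsPerfectRel f F) (m : ℤ) : LocPC m ((DCoh.Rpush f).obj (DCoh.toD X F)) := by
  have h := PushAmp.relPC_rpush f (𝟙 Y) f (DCoh.toD X F) a hF.1
  have hc := PushAmp.isCohD_of_relPC (𝟙 Y) h
  obtain ⟨b, hb⟩ := PushAmp.exists_bound_of_relPC (𝟙 Y) (h 0) (⊤ : Y.Opens) isCompact_univ
  refine locPC_of_coh (fun i => (hc i).1) (fun i _ => hc i) b fun i hi => ?_
  exact isZero_of_isZero_restrict _ fun y => ⟨⊤, trivial, hb i hi⟩

/-- A locally constant fibre dimension of `Rf_* F` makes `R^p f_*(Lf^* - ⊗^L F)` exact. -/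
theorem exact_push_of_betti [IsNoetherian Y] [IsReduced Y] [IsProper f] (a : ℤ)
    [(DCoh.toD X F).IsGE a] (hF : DerSch.IsPerfectRel f F)
    [∀ y : Y, DCoh.HasLpull (Y.fromSpecResidueField y)] (p : ℤ)
    (hc : IsLocallyConstant (fun y : Y => PerfD.betti ((DCoh.Rpush f).obj (DCoh.toD X F)) y p)) :
    PreservesFiniteLimits ((QCohCat.isQCoh Y).ι ⋙ DerivedCategory.singleFunctor Y.Modules 0 ⋙
        DCoh.Lpull f ⋙ DCoh.LTensorCx F ⋙ DCoh.Rpush f ⋙ DerivedCategory.homologyFunctor Y.Modules p) ∧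
      PreservesFiniteColimits ((QCohCat.isQCoh Y).ι ⋙ DerivedCategory.singleFunctor Y.Modules 0 ⋙
        DCoh.Lpull f ⋙ DCoh.LTensorCx F ⋙ DCoh.Rpush f ⋙ DerivedCategory.homologyFunctor Y.Modules p) := by
  obtain ⟨R, hR, hf, ⟨eR⟩, hθ⟩ := nonempty_push_hT_iso f F (PushAmp.isQCohD_of_relPC f hF.1)
  obtain ⟨θ⟩ := hθ p
  have hpc := locPC_rpush f F a hF (p - 1)
  haveI : PreservesFiniteLimits ((QCohCat.isQCoh Y).ι ⋙ hT R p) :=
    (preservesFiniteLimits_iff hf p).2 fun g _ _ hm =>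
      (preserves_hT_of_betti hR _ eR hpc hc g).1 hm
  haveI : PreservesFiniteColimits ((QCohCat.isQCoh Y).ι ⋙ hT R p) :=
    (Functor.preservesFiniteColimits_iff_forall_exact_map_and_epi _).2 fun S hS =>
      have hS' := hS.map_of_exact (QCohCat.isQCoh Y).ι
      ⟨exact_map_hT hf hS' p, (preserves_hT_of_betti hR _ eR hpc hc _).2 hS'.epi_g⟩
  exact ⟨preservesFiniteLimits_of_natIso θ, preservesFiniteColimits_of_natIso θ⟩

/-- Exactness of `R^p f_*(Lf^* - ⊗^L F)` makes `R^p f_* F` finite locally free and the fibre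
dimension locally constant, as soon as `Rf_* F` is pseudo-coherent. -/
theorem betti_of_exact_push [QuasiSeparatedSpace Y] [QuasiCompact f] [QuasiSeparated f]
    (hF : DCoh.IsQCohD (DCoh.toD X F)) [∀ y : Y, DCoh.HasLpull (Y.fromSpecResidueField y)] (p : ℤ)
    (hpc : LocPC (p - 1) ((DCoh.Rpush f).obj (DCoh.toD X F)))
    [PreservesFiniteLimits ((QCohCat.isQCoh Y).ι ⋙ DerivedCategory.singleFunctor Y.Modules 0 ⋙
        DCoh.Lpull f ⋙ DCoh.LTensorCx F ⋙ DCoh.Rpush f ⋙ DerivedCategory.homologyFunctor Y.Modules p)]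
    [PreservesFiniteColimits ((QCohCat.isQCoh Y).ι ⋙ DerivedCategory.singleFunctor Y.Modules 0 ⋙
        DCoh.Lpull f ⋙ DCoh.LTensorCx F ⋙ DCoh.Rpush f ⋙ DerivedCategory.homologyFunctor Y.Modules p)] :
    FlatMod.IsFinLocFree (DCoh.HD ((DCoh.Rpush f).obj (DCoh.toD X F)) p) ∧
      IsLocallyConstant (fun y : Y => PerfD.betti ((DCoh.Rpush f).obj (DCoh.toD X F)) y p) := by
  obtain ⟨R, hR, hf, ⟨eR⟩, hθ⟩ := nonempty_push_hT_iso f F hF
  obtain ⟨θ⟩ := hθ p
  have h₁ : PreservesFiniteLimits ((QCohCat.isQCoh Y).ι ⋙ hT R p) :=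
    preservesFiniteLimits_of_natIso θ.symm
  have h₂ : PreservesFiniteColimits ((QCohCat.isQCoh Y).ι ⋙ hT R p) :=
    preservesFiniteColimits_of_natIso θ.symm
  refine (betti_of_mono_hT hR _ eR hpc ?_).symm
  rintro k (rfl | rfl) M N g hM hN hm
  · exact (preservesFiniteLimits_iff hf _).1 h₁ g hM hN hm
  · exact (preservesFiniteColimits_iff hf p).1 h₂ g hM hN hm

end Groth.Agent.Exactness
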