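import Groth.Agent.Exactness.Local
import Groth.Agent.KFlatLib.Perfect.Betti

/-!
# Regular differentials and locally constant ranks
-/

set_option autoImplicit false
set_option linter.style.haveILetI false

universe u

open CategoryTheory CategoryTheory.Limits AlgebraicGeometry TopologicalSpace Opposite Module

namespace Groth.Agent.Exactness

open KFlatLib

variable {X : Scheme.{u}}

/-- Ranks of matrices of functions are lower semicontinuous. -/
lemma eventually_le_rank {W : X.Opens} {p q : ℕ} (c : Matrix (Fin p) (Fin q) Γ(X, W)) {y : X}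
    (hy : y ∈ W) : ∀ᶠ z in nhds y, ∀ hz : z ∈ W,
      (c.map (X.evaluation W y hy).hom).rank ≤ (c.map (X.evaluation W z hz).hom).rank := by
  obtain ⟨s, t, hst⟩ := (le_rank_iff_exists_minor _).1 (le_refl (c.map (X.evaluation W y hy).hom).rank)
  rw [Matrix.submatrix_map, ← RingHom.mapMatrix_apply, ← RingHom.map_det] at hst
  have hy' : y ∈ X.basicOpen (c.submatrix s t).det :=
    (Scheme.evaluation_ne_zero_iff_mem_basicOpen X y hy _).1 hst
  filter_upwards [(X.basicOpen (c.submatrix s t).det).2.mem_nhds hy'] with _z hz hzW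
  refine (le_rank_iff_exists_minor _).2 ⟨s, t, ?_⟩
  rw [Matrix.submatrix_map, ← RingHom.mapMatrix_apply, ← RingHom.map_det]
  exact (Scheme.evaluation_ne_zero_iff_mem_basicOpen X _z hzW _).2 hz

lemma rkAt_eq_rank {p q : ℕ} (c : Matrix (Fin p) (Fin q) Γ(X, ⊤)) (z : X) :
    rkAt c z = (c.map (X.evaluation ⊤ z trivial).hom).rank := rfl

lemma eventually_le_rkAt {p q : ℕ} (c : Matrix (Fin p) (Fin q) Γ(X, ⊤)) (y : X) :
    ∀ᶠ z in nhds y, rkAt c y ≤ rkAt c z :=
  (eventually_le_rank c (W := ⊤) trivial).mono fun z h => h trivial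

variable {n m : ℕ} (d : FlatMod.freeMod X n ⟶ FlatMod.freeMod X m) (y : X)

/-- A map of free modules that is regular at a stalk has locally constant rank there. -/
lemma eventually_rkAt_eq_of_reg
    (g : (DerSch.stalkFunctor X y).obj (FlatMod.freeMod X m) ⟶
      (DerSch.stalkFunctor X y).obj (FlatMod.freeMod X n))
    (hg : (DerSch.stalkFunctor X y).map d ≫ g ≫ (DerSch.stalkFunctor X y).map d =
      (DerSch.stalkFunctor X y).map d) :
    ∀ᶠ z in nhds y, rkAt (secMat d) z = rkAt (secMat d) y := by
  classical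
  let c := secMat d
  let germ := fun {W : X.Opens} (hW : y ∈ W) => (X.presheaf.germ W y hW).hom
  let G := LinearMap.toMatrix (eBasis y m) (eBasis y n) g.hom
  have hG : c.map (germ (W := ⊤) trivial) * G * c.map (germ (W := ⊤) trivial) =
      c.map (germ (W := ⊤) trivial) := by
    rw [← toMatrix_stalk y d, ← LinearMap.toMatrix_comp, ← LinearMap.toMatrix_comp]
    exact congrArg _ (congrArg ModuleCat.Hom.hom hg)
  choose V hV σ hσ using fun k : Fin n × Fin m => X.presheaf.exists_germ_eq (x := y) (G k.1 k.2)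
  let W : X.Opens := Finset.univ.inf V
  have hyW : y ∈ W := by
    have : ∀ s : Finset (Fin n × Fin m), y ∈ s.inf V := fun s => by
      induction s using Finset.induction_on with
      | empty => simp
      | insert a s _ ih => rw [Finset.inf_insert]; exact ⟨hV a, ih⟩
    exact this _
  let G' : Matrix (Fin n) (Fin m) Γ(X, W) := fun l k =>
    X.presheaf.map (homOfLE (Finset.inf_le (Finset.mem_univ (l, k)))).op (σ (l, k))
  have hG' : G'.map (germ hyW) = G := by
    ext l k
    exact (X.presheaf.germ_res_apply _ y hyW _).trans (hσ (l, k))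
  let cW : Matrix (Fin m) (Fin n) Γ(X, W) := c.map (X.presheaf.map (homOfLE le_top).op).hom
  have hcW : cW.map (germ hyW) = c.map (germ (W := ⊤) trivial) := by
    ext l k
    exact X.presheaf.germ_res_apply _ y hyW _
  have he : ∀ l k, germ hyW ((cW * G' * cW) l k) = germ hyW (cW l k) := fun l k => by
    have := congrFun (congrFun hG l) k
    rw [← hG', ← hcW, ← Matrix.map_mul, ← Matrix.map_mul] at this
    exact this
  choose V' hV' i₁ _ heq using fun k : Fin m × Fin n =>
    let ⟨U, hU, i₁, i₂, h⟩ := X.presheaf.germ_eq y hyW hyW _ _ (he k.1 k.2)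
    (⟨U, hU, i₁, i₂, (Subsingleton.elim i₁ i₂) ▸ h⟩ :
      ∃ (U : X.Opens) (_ : y ∈ U) (i₁ : U ⟶ W) (_ : U ⟶ W),
        X.presheaf.map i₁.op ((cW * G' * cW) k.1 k.2) = X.presheaf.map i₁.op (cW k.1 k.2))
  have hev : ∀ᶠ z in nhds y, z ∈ W ∧ ∀ k, z ∈ V' k := by
    refine Filter.Eventually.and (W.2.mem_nhds hyW) (Filter.eventually_all.2 fun k => ?_)
    exact (V' k).2.mem_nhds (hV' k)
  let cW' : Matrix (Fin m) (Fin m) Γ(X, W) := 1 - cW * G'
  have key : ∀ z (hz : z ∈ W), (∀ k, z ∈ V' k) →
      rkAt c z + (cW'.map (X.evaluation W z hz).hom).rank = m := fun z hz hk => by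
    have hc : c.map (X.evaluation ⊤ z trivial).hom = cW.map (X.evaluation W z hz).hom := by
      ext l k
      exact (congrArg (X.residue z) (X.presheaf.germ_res_apply _ z hz _)).symm
    have h1 : cW.map (X.evaluation W z hz).hom * G'.map (X.evaluation W z hz).hom *
        cW.map (X.evaluation W z hz).hom = cW.map (X.evaluation W z hz).hom := by
      rw [← Matrix.map_mul, ← Matrix.map_mul]
      ext l k
      refine congrArg (X.residue z) ?_
      refine (X.presheaf.germ_res_apply (i₁ (l, k)) z (hk (l, k)) _).symm.trans ?_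
      exact (congrArg _ (heq (l, k))).trans (X.presheaf.germ_res_apply _ z (hk (l, k)) _)
    rw [rkAt_eq_rank, hc]
    have h2 : cW'.map (X.evaluation W z hz).hom =
        1 - cW.map (X.evaluation W z hz).hom * G'.map (X.evaluation W z hz).hom := by
      rw [Matrix.map_sub _ (map_sub _), Matrix.map_one _ (map_zero _) (map_one _), Matrix.map_mul]
    rw [h2]
    exact rank_add_rank_of_reg _ _ h1
  have hky := key y hyW fun k => hV' k
  filter_upwards [hev, eventually_le_rkAt c y, eventually_le_rank cW' hyW] with z hz h1 h2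
  have := key z hz.1 hz.2
  have := h2 hz.1
  show rkAt c z = rkAt c y
  omega

/-- On a reduced scheme a map of free modules of locally constant rank is regular at stalks. -/
lemma exists_reg_of_rkAt [IsReduced X]
    (h : ∀ᶠ z in nhds y, rkAt (secMat d) z ≤ rkAt (secMat d) y) :
    ∃ g : (DerSch.stalkFunctor X y).obj (FlatMod.freeMod X m) ⟶
      (DerSch.stalkFunctor X y).obj (FlatMod.freeMod X n),
    (DerSch.stalkFunctor X y).map d ≫ g ≫ (DerSch.stalkFunctor X y).map d =
      (DerSch.stalkFunctor X y).map d := by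
  let c := secMat d
  let γ := (X.presheaf.germ ⊤ y trivial).hom
  obtain ⟨s, t, hst⟩ := (le_rank_iff_exists_minor _).1
    (le_refl (c.map (X.evaluation ⊤ y trivial).hom).rank)
  rw [Matrix.submatrix_map, ← RingHom.mapMatrix_apply, ← RingHom.map_det] at hst
  have hu : IsUnit ((c.map γ).submatrix s t).det := by
    rw [Matrix.submatrix_map, ← RingHom.mapMatrix_apply, ← RingHom.map_det]
    exact (X.mem_basicOpen (c.submatrix s t).det y trivial).1
      ((Scheme.evaluation_ne_zero_iff_mem_basicOpen X (U := ⊤) y trivial _).1 hst)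
  obtain ⟨O, hO, hOo, hyO⟩ := mem_nhds_iff.1 h
  let W : X.Opens := ⟨O, hOo⟩
  have hz : ∀ (s' : Fin ((c.map (X.evaluation ⊤ y trivial).hom).rank + 1) → Fin m)
      (t' : Fin ((c.map (X.evaluation ⊤ y trivial).hom).rank + 1) → Fin n),
      ((c.map γ).submatrix s' t').det = 0 := fun s' t' => by
    rw [Matrix.submatrix_map, ← RingHom.mapMatrix_apply, ← RingHom.map_det]
    let D := X.presheaf.map (homOfLE (le_top : W ≤ ⊤)).op (c.submatrix s' t').det
    have hD : D = 0 := eq_zero_of_basicOpen_eq_bot D (by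
      refine eq_bot_iff.2 fun z hz => ?_
      rw [Scheme.basicOpen_res] at hz
      have hne := (Scheme.evaluation_ne_zero_iff_mem_basicOpen X (U := ⊤) z trivial _).2 hz.2
      have hge : (c.map (X.evaluation ⊤ y trivial).hom).rank + 1 ≤ rkAt c z :=
        (le_rank_iff_exists_minor _).2 ⟨s', t', by
          rw [Matrix.submatrix_map, ← RingHom.mapMatrix_apply, ← RingHom.map_det]
          exact hne⟩
      have hle : rkAt c z ≤ rkAt c y := hO hz.1
      rw [rkAt_eq_rank c y] at hle
      omega)
    refine (X.presheaf.germ_res_apply (homOfLE (le_top : W ≤ ⊤)) y hyO _).symm.trans ?_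
    exact (congrArg _ hD).trans (map_zero _)
  obtain ⟨G, hG⟩ := exists_reg_of_minors (c.map γ) s t hu hz
  refine ⟨ConcreteCategory.ofHom (C := ModuleCat.{u} (X.presheaf.stalk y))
    (X := (DerSch.stalkFunctor X y).obj (FlatMod.freeMod X m))
    (Y := (DerSch.stalkFunctor X y).obj (FlatMod.freeMod X n))
    (Matrix.toLin (eBasis y m) (eBasis y n) G), ModuleCat.hom_ext ?_⟩
  apply (LinearMap.toMatrix (eBasis y n) (eBasis y m)).injective
  change LinearMap.toMatrix (eBasis y n) (eBasis y m)
      ((((DerSch.stalkFunctor X y).map d).hom ∘ₗ Matrix.toLin (eBasis y m) (eBasis y n) G) ∘ₗ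
        ((DerSch.stalkFunctor X y).map d).hom) =
    LinearMap.toMatrix (eBasis y n) (eBasis y m) ((DerSch.stalkFunctor X y).map d).hom
  rw [LinearMap.toMatrix_comp _ (eBasis y m), LinearMap.toMatrix_comp _ (eBasis y n), toMatrix_stalk,
    LinearMap.toMatrix_toLin]
  exact hG

end Groth.Agent.Exactness
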